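import Groth.Agent.Lib.ModLimH13.Hom1
import Groth.Agent.Lib.KFlat.Pullback
import Groth.Agent.Lib.LimH13.Stalk

/-!
# Homomorphisms of modules along a limit with flat transition maps
-/

universe u

set_option linter.style.haveILetI false
set_option backward.isDefEq.respectTransparency false

open AlgebraicGeometry CategoryTheory Limits

namespace Groth.Agent.ModLimH13

variable {X Y : Scheme.{u}}

theorem mono_pullback_map_of_flat (f : Y ⟶ X) [Flat f] {A B : X.Modules} (g : A ⟶ B) [Mono g] :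
    Mono ((Scheme.Modules.pullback f).map g) := by
  refine (KFlat.Sch.mono_iff_stalk _).2 fun y => ?_
  have hinj : Function.Injective (KFlat.Sch.stk g (f y)) := (KFlat.Sch.mono_iff_stalk g).1 ‹_› (f y)
  have hfl : _root_.Module.Flat (X.presheaf.stalk (f y)) (Y.presheaf.stalk y) := Flat.stalkMap f y
  have key : Function.Injective ((KFlat.Sch.stk g (f y)).lTensor (Y.presheaf.stalk y)) :=
    _root_.Module.Flat.lTensor_preserves_injective_linearMap _ hinj
  intro a b hab
  obtain ⟨a, rfl⟩ := (M2.pullStalkEquiv f y A).surjective a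
  obtain ⟨b, rfl⟩ := (M2.pullStalkEquiv f y A).surjective b
  rw [KFlat.Sch.pullStalkEquiv_naturality, KFlat.Sch.pullStalkEquiv_naturality] at hab
  exact congrArg _ (key ((M2.pullStalkEquiv f y B).injective hab))

theorem preservesFiniteLimits_pullback_of_flat (f : Y ⟶ X) [Flat f] :
    PreservesFiniteLimits (Scheme.Modules.pullback f) := by
  refine (Functor.preservesFiniteLimits_iff_forall_exact_map_and_mono _).2 fun S hS => ?_
  haveI := hS.mono_f
  exact ⟨ShortComplex.Exact.map_of_epi_of_preservesCokernel hS.exact _ hS.epi_g inferInstance,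
    mono_pullback_map_of_flat f S.f⟩

theorem exact_map_of_flat (f : Y ⟶ X) [Flat f] {A B C : X.Modules} (a : A ⟶ B) (b : B ⟶ C)
    (z : a ≫ b = 0) (h : (ShortComplex.mk a b z).Exact)
    (w : (Scheme.Modules.pullback f).map a ≫ (Scheme.Modules.pullback f).map b = 0) :
    (ShortComplex.mk _ _ w).Exact := by
  haveI := preservesFiniteLimits_pullback_of_flat f
  haveI : PreservesFiniteColimits (Scheme.Modules.pullback f) := KFlat.Sch.preservesFiniteColimits_pullback f
  haveI := Functor.preservesHomologyOfExact (Scheme.Modules.pullback f)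
  exact h.map (Scheme.Modules.pullback f)

theorem mono_map_iff_comp {X'' : Scheme.{u}} (p : X'' ⟶ Y) (g : Y ⟶ X) {h : X'' ⟶ X}
    (w : p ≫ g = h) {M N : X.Modules} (f : M ⟶ N) :
    Mono ((Scheme.Modules.pullback p).map ((Scheme.Modules.pullback g).map f)) ↔
      Mono ((Scheme.Modules.pullback h).map f) := by
  rw [← NatIso.naturality_1 (cmp p g w) f]
  simp only [Functor.comp_map, mono_comp_iff_of_isIso, mono_comp_iff_of_mono]

section Lim

variable {I : Type u} [SmallCategory I] [IsCofiltered I] {D : I ⥤ Scheme.{u}} {c : Cone D}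
  (hc : IsLimit c) [∀ (i j : I) (f : i ⟶ j), IsAffineHom (D.map f)] {i₀ : I}
  [CompactSpace (D.obj i₀)] (hfl : ∀ (i j : I) (φ : i ⟶ j), Flat (D.map φ))

include hc hfl

theorem mono_iff_eventually {F₀ G₀ : (D.obj i₀).Modules} (hF : Coh.IsQCoh F₀) (hG : Coh.IsQCoh G₀)
    (f₀ : F₀ ⟶ G₀) (hker : CohB1.IsFT (kernel f₀)) :
    Mono ((Scheme.Modules.pullback (c.π.app i₀)).map f₀) ↔
      ∃ (j : I) (φ : j ⟶ i₀), Mono ((Scheme.Modules.pullback (D.map φ)).map f₀) := by
  constructor
  · intro hm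
    have hK := M1.isQCoh_kernel hF hG f₀
    have h0 : (Scheme.Modules.pullback (c.π.app i₀)).map (kernel.ι f₀) =
        (Scheme.Modules.pullback (c.π.app i₀)).map 0 := by
      rw [← cancel_mono ((Scheme.Modules.pullback (c.π.app i₀)).map f₀), map_kernel_zero,
        Functor.map_zero, zero_comp]
    obtain ⟨j, φ, hj⟩ := exists_map_eq hc (i₀ := i₀) hker (kernel.ι f₀) 0 h0
    haveI := hfl _ _ φ
    have hex := exact_map_of_flat (D.map φ) (kernel.ι f₀) f₀ (kernel.condition f₀)
      (ShortComplex.exact_of_f_is_kernel _ (kernelIsKernel f₀)) (map_kernel_zero _ f₀)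
    exact ⟨j, φ, hex.mono_g (by rw [Functor.map_zero] at hj; exact hj)⟩
  · rintro ⟨j, φ, hm⟩
    haveI : Flat (c.π.app j) := LimH13.flat_π hc j fun k ψ => hfl k j ψ
    haveI := hm
    exact (mono_map_iff_comp (c.π.app j) (D.map φ) (c.w φ) f₀).1
      (mono_pullback_map_of_flat _ _)

omit hfl in
theorem map_comp_zero {F₀ G₀ H₀ : (D.obj i₀).Modules} (f₀ : F₀ ⟶ G₀) (g₀ : G₀ ⟶ H₀) {j : I}
    (φ : j ⟶ i₀)
    (h : (Scheme.Modules.pullback (D.map φ)).map (f₀ ≫ g₀) = 0) :
    (Scheme.Modules.pullback (c.π.app i₀)).map f₀ ≫ (Scheme.Modules.pullback (c.π.app i₀)).map g₀ = 0 := by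
  rw [← Functor.map_comp, map_pullback_eq_of_comp (c.π.app j) (D.map φ) (c.w φ) (f₀ ≫ g₀) 0
    (by rw [h, Functor.map_zero]), Functor.map_zero]

theorem exact_iff_eventually {F₀ G₀ H₀ : (D.obj i₀).Modules} (hF : Coh.IsQCoh F₀)
    (hG : Coh.IsQCoh G₀) (hH : Coh.IsQCoh H₀) (f₀ : F₀ ⟶ G₀) (g₀ : G₀ ⟶ H₀)
    (hIm : CohB1.IsFT (image f₀)) (hKer : CohB1.IsFT (kernel g₀)) :
    (∃ w : (Scheme.Modules.pullback (c.π.app i₀)).map f₀ ≫
        (Scheme.Modules.pullback (c.π.app i₀)).map g₀ = 0, (ShortComplex.mk _ _ w).Exact) ↔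
      ∃ (j : I) (φ : j ⟶ i₀) (w : (Scheme.Modules.pullback (D.map φ)).map f₀ ≫
          (Scheme.Modules.pullback (D.map φ)).map g₀ = 0), (ShortComplex.mk _ _ w).Exact := by
  constructor
  · rintro ⟨w, hex⟩
    let P := Scheme.Modules.pullback (c.π.app i₀)
    have hC : Coh.IsQCoh (cokernel f₀) := M1.isQCoh_cokernel hF hG f₀
    have hI : Coh.IsQCoh (image f₀) :=
      M1.isQCoh_of_isIso (Abelian.imageIsoImage f₀) (M1.isQCoh_kernel hG hC _)
    have hK : Coh.IsQCoh (kernel g₀) := M1.isQCoh_kernel hG hH g₀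
    -- the composite vanishes at a stage
    haveI : Epi (P.map (factorThruImage f₀)) := P.map_epi _
    have h1 : P.map (image.ι f₀ ≫ g₀) = P.map 0 := by
      rw [← cancel_epi (P.map (factorThruImage f₀)), Functor.map_zero, comp_zero, ← Functor.map_comp,
        ← Category.assoc, image.fac, Functor.map_comp]
      exact w
    obtain ⟨j₁, φ₁, e₁⟩ := exists_map_eq hc (i₀ := i₀) hIm (image.ι f₀ ≫ g₀) 0 h1
    -- the kernel dies in the cokernel at a stage
    have h2 : P.map (kernel.ι g₀ ≫ cokernel.π f₀) = P.map 0 := by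
      rw [Functor.map_zero, Functor.map_comp]
      obtain ⟨A', π, hπ, x, hx⟩ := hex.exact_up_to_refinements (P.map (kernel.ι g₀))
        (map_kernel_zero _ g₀)
      rw [← cancel_epi π, ← Category.assoc]
      erw [hx]
      rw [Category.assoc, ← Functor.map_comp, cokernel.condition, Functor.map_zero, comp_zero,
        comp_zero]
    obtain ⟨j₂, φ₂, e₂⟩ := exists_map_eq hc (i₀ := i₀) hKer (kernel.ι g₀ ≫ cokernel.π f₀) 0 h2
    obtain ⟨j, a, b, hab⟩ := IsCofiltered.cospan φ₁ φ₂
    haveI := hfl _ _ (a ≫ φ₁)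
    let Q := Scheme.Modules.pullback (D.map (a ≫ φ₁))
    have e₁' : Q.map (image.ι f₀ ≫ g₀) = Q.map 0 :=
      map_pullback_eq_of_comp (D.map a) (D.map φ₁) (D.map_comp a φ₁).symm _ _ e₁
    have e₂' : Q.map (kernel.ι g₀ ≫ cokernel.π f₀) = Q.map 0 :=
      map_pullback_eq_of_comp (D.map b) (D.map φ₂)
        (by rw [hab, D.map_comp]) _ _ e₂
    rw [Functor.map_zero] at e₁' e₂'
    have wj : Q.map f₀ ≫ Q.map g₀ = 0 := by
      rw [← Functor.map_comp, ← image.fac f₀, Category.assoc, Functor.map_comp, e₁', comp_zero]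
    refine ⟨j, a ≫ φ₁, wj, ?_⟩
    rw [ShortComplex.exact_iff_exact_up_to_refinements]
    intro T x hx
    haveI : Mono (Q.map (kernel.ι g₀)) := mono_pullback_map_of_flat _ _
    have hkex := exact_map_of_flat (D.map (a ≫ φ₁)) (kernel.ι g₀) g₀ (kernel.condition g₀)
      (ShortComplex.exact_of_f_is_kernel _ (kernelIsKernel g₀)) (map_kernel_zero _ g₀)
    have hlift : hkex.lift x hx ≫ Q.map (kernel.ι g₀) = x := hkex.lift_f x hx
    have hxp : x ≫ Q.map (cokernel.π f₀) = 0 := by
      rw [← hlift, Category.assoc, ← Functor.map_comp, e₂', comp_zero]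
    have hcex := exact_map_of_flat (D.map (a ≫ φ₁)) f₀ (cokernel.π f₀) (cokernel.condition f₀)
      (ShortComplex.exact_of_g_is_cokernel _ (cokernelIsCokernel f₀))
      (by rw [← Functor.map_comp, cokernel.condition, Functor.map_zero])
    exact hcex.exact_up_to_refinements x hxp
  · rintro ⟨j, φ, w, hex⟩
    haveI : Flat (c.π.app j) := LimH13.flat_π hc j fun k ψ => hfl k j ψ
    have z := map_comp_zero hc f₀ g₀ φ (by rw [Functor.map_comp, w])
    have w' : (Scheme.Modules.pullback (c.π.app j)).map ((Scheme.Modules.pullback (D.map φ)).map f₀) ≫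
        (Scheme.Modules.pullback (c.π.app j)).map ((Scheme.Modules.pullback (D.map φ)).map g₀) = 0 := by
      rw [← Functor.map_comp, w, Functor.map_zero]
    exact ⟨z, (exact_map_comp_iff _ _ (c.w φ) f₀ g₀ w' z).1 (exact_map_of_flat _ _ _ w hex w')⟩

end Lim

end Groth.Agent.ModLimH13
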