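import Groth.Agent.Lib.SchDom.ModPiece
import Groth.Agent.Lib.TensorMod.PullStalk
import Groth.Agent.Lib.Ample18.Sections
import Groth.Agent.Lib.ModM1.Pull
import Mathlib.RingTheory.LocalProperties.Exactness

/-!
# Sections of pulled back modules over affine opens
-/

universe u

set_option linter.style.haveILetI false
set_option backward.isDefEq.respectTransparency false

open AlgebraicGeometry CategoryTheory Limits TensorProduct

namespace Groth.Agent.ModLimH13

variable {X X' X'' : Scheme.{u}}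

/-- The unit on sections, restricted to an open of the preimage. -/
noncomputable def res' (g : X' ⟶ X) (M : X.Modules) {W : X.Opens} {W' : X'.Opens} (e : W' ≤ g ⁻¹ᵁ W)
    (s : Γ(M, W)) : Γ((Scheme.Modules.pullback g).obj M, W') :=
  M1.mres _ e (M2.pullSec g M s)

section

variable (g : X' ⟶ X) (M : X.Modules) {W : X.Opens} {W' : X'.Opens} (e : W' ≤ g ⁻¹ᵁ W)

lemma res'_add (s t : Γ(M, W)) : res' g M e (s + t) = res' g M e s + res' g M e t := by
  rw [res', M2.pullSec_add, map_add]; rfl

lemma res'_smul (r : Γ(X, W)) (s : Γ(M, W)) :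
    res' g M e (r • s) = g.appLE W W' e r • res' g M e s := by
  rw [res', M2.pullSec_smul, M1.mres_smul]
  rfl

lemma mres_res' {V' : X'.Opens} (h : V' ≤ W') (s : Γ(M, W)) :
    M1.mres _ h (res' g M e s) = res' g M (h.trans e) s := M1.mres_mres _ _ _ _

lemma res'_mres {V : X.Opens} (h : V ≤ W) {V' : X'.Opens} (e' : V' ≤ g ⁻¹ᵁ V) (s : Γ(M, W)) :
    res' g M e' (M1.mres M h s) = res' g M (e'.trans (g.preimage_mono h)) s := by
  have h1 : M2.pullSec g M (M1.mres M h s) = M1.mres _ (g.preimage_mono h) (M2.pullSec g M s) :=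
    M1.app_mres _ h s
  rw [res', h1]
  exact M1.mres_mres _ _ _ _

lemma map_res' {N : X.Modules} (φ : M ⟶ N) (s : Γ(M, W)) :
    ((Scheme.Modules.pullback g).map φ).app W' (res' g M e s) = res' g N e (φ.app W s) := by
  rw [res', M1.app_mres, Amp.map_pullSec]
  rfl

variable [Coh.IsQCoh M] (hW : IsAffineOpen W) (hW' : IsAffineOpen W')

include hW hW' in
/-- Over affine opens the sections of the pullback are the base change of the sections. -/
theorem exists_pullEquiv :
    letI := (g.appLE W W' e).hom.toAlgebra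
    ∃ Φ : Γ(X', W') ⊗[Γ(X, W)] Γ(M, W) ≃ₗ[Γ(X', W')] Γ((Scheme.Modules.pullback g).obj M, W'),
      ∀ (c : Γ(X', W')) (s : Γ(M, W)), Φ (c ⊗ₜ s) = c • res' g M e s := by
  letI := (g.appLE W W' e).hom.toAlgebra
  obtain ⟨L, hL1, hL⟩ := SchDom.exists_pullLin' g M hW hW' e
  let F' := (Scheme.Modules.pullback g).obj M
  haveI : Coh.IsQCoh F' := M1.isQCoh_pullback g inferInstance
  have hbij : Function.Bijective L := by
    refine bijective_of_localized_maximal _ fun J hJ => ?_
    obtain ⟨⟨x', hx'⟩, hxq⟩ := hW'.isoSpec.hom.surjective ⟨J, hJ.isPrime⟩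
    have hx : (hW'.primeIdealOf ⟨x', hx'⟩).asIdeal = J := congrArg PrimeSpectrum.asIdeal hxq
    letI := M1.stalkModule F' hx'
    have h1 := hL x' hx'
    have h2 := M1.isLocalizedModule_germ F' hW' hx'
    subst hx
    haveI := h1
    haveI := h2
    have e2 : (IsLocalizedModule.iso (hW'.primeIdealOf ⟨x', hx'⟩).asIdeal.primeCompl (M1.germₗ F' hx')).toLinearMap ∘ₗ
        LocalizedModule.map (hW'.primeIdealOf ⟨x', hx'⟩).asIdeal.primeCompl L ∘ₗ
          (IsLocalizedModule.iso (hW'.primeIdealOf ⟨x', hx'⟩).asIdeal.primeCompl ((M1.germₗ F' hx').comp L)).symm.toLinearMap =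
        LinearMap.id := by
      refine IsLocalizedModule.linearMap_ext (hW'.primeIdealOf ⟨x', hx'⟩).asIdeal.primeCompl ((M1.germₗ F' hx').comp L)
        ((M1.germₗ F' hx').comp L) (LinearMap.ext fun z => ?_)
      simp only [LinearMap.coe_comp, LinearEquiv.coe_coe, Function.comp_apply, LinearMap.id_coe, id_eq]
      rw [show (M1.germₗ F' hx') (L z) = ((M1.germₗ F' hx').comp L) z from rfl,
        IsLocalizedModule.iso_symm_apply]
      show IsLocalizedModule.iso _ _ (LocalizedModule.map _ L (LocalizedModule.mk z 1)) = _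
      rw [LocalizedModule.map_mk, IsLocalizedModule.iso_apply_mk]
      simp
      rfl
    have hb : Function.Bijective (⇑(IsLocalizedModule.iso (hW'.primeIdealOf ⟨x', hx'⟩).asIdeal.primeCompl (M1.germₗ F' hx')) ∘
        ⇑(LocalizedModule.map (hW'.primeIdealOf ⟨x', hx'⟩).asIdeal.primeCompl L) ∘
          ⇑(IsLocalizedModule.iso (hW'.primeIdealOf ⟨x', hx'⟩).asIdeal.primeCompl ((M1.germₗ F' hx').comp L)).symm) := by
      convert Function.bijective_id
      exact congrArg DFunLike.coe e2
    exact (Function.Bijective.of_comp_iff _ (LinearEquiv.bijective _)).1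
      ((Function.Bijective.of_comp_iff' (LinearEquiv.bijective _) _).1 hb)
  refine ⟨LinearEquiv.ofBijective L hbij, fun c s => ?_⟩
  rw [LinearEquiv.ofBijective_apply, show c ⊗ₜ[Γ(X, W)] s = c • ((1 : Γ(X', W')) ⊗ₜ[Γ(X, W)] s) by
    rw [TensorProduct.smul_tmul', smul_eq_mul, mul_one], map_smul, hL1]
  rfl

include hW hW' in
/-- The sections of the pullback are generated by the units. -/
theorem pullback_induction {p : Γ((Scheme.Modules.pullback g).obj M, W') → Prop}
    (h0 : p 0) (hadd : ∀ a b, p a → p b → p (a + b)) (hres : ∀ (c : Γ(X', W')) (s : Γ(M, W)), p (c • res' g M e s))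
    (t : Γ((Scheme.Modules.pullback g).obj M, W')) : p t := by
  letI := (g.appLE W W' e).hom.toAlgebra
  obtain ⟨Φ, hΦ⟩ := exists_pullEquiv g M e hW hW'
  obtain ⟨z, rfl⟩ := Φ.surjective t
  induction z using TensorProduct.induction_on with
  | zero => rw [map_zero]; exact h0
  | tmul c s => rw [hΦ]; exact hres c s
  | add a b ha hb => rw [map_add]; exact hadd _ _ ha hb

end

section Comp

variable (p : X'' ⟶ X') (g : X' ⟶ X) (M : X.Modules)

/-- The units of a composite. -/
theorem pullbackComp_pullSec {U : X.Opens} (s : Γ(M, U)) :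
    ((Scheme.Modules.pullbackComp p g).hom.app M).app (p ⁻¹ᵁ g ⁻¹ᵁ U)
      (M2.pullSec p ((Scheme.Modules.pullback g).obj M) (M2.pullSec g M s)) =
        M2.pullSec (p ≫ g) M s := by
  have h := unit_conjugateEquiv
    ((Scheme.Modules.pullbackPushforwardAdjunction g).comp (Scheme.Modules.pullbackPushforwardAdjunction p))
    (Scheme.Modules.pullbackPushforwardAdjunction (p ≫ g)) (Scheme.Modules.pullbackComp p g).inv M
  rw [Scheme.Modules.conjugateEquiv_pullbackComp_inv] at h
  have h2 : (M2.pullSec p ((Scheme.Modules.pullback g).obj M) (M2.pullSec g M s) :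
        Γ((Scheme.Modules.pullback g ⋙ Scheme.Modules.pullback p).obj M, p ⁻¹ᵁ g ⁻¹ᵁ U)) =
      ((Scheme.Modules.pullbackComp p g).inv.app M).app (p ⁻¹ᵁ g ⁻¹ᵁ U) (M2.pullSec (p ≫ g) M s) := by
    refine Eq.trans ?_ (congrArg (fun φ => φ.app U s) h)
    rfl
  rw [h2]
  exact congrArg (fun φ : (Scheme.Modules.pullback (p ≫ g)).obj M ⟶ _ => φ.app (p ⁻¹ᵁ g ⁻¹ᵁ U) (M2.pullSec (p ≫ g) M s))
    ((Scheme.Modules.pullbackComp p g).inv_hom_id_app M)

/-- The composite comparison of pullbacks. -/
noncomputable def cmp {h : X'' ⟶ X} (w : p ≫ g = h) :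
    Scheme.Modules.pullback g ⋙ Scheme.Modules.pullback p ≅ Scheme.Modules.pullback h :=
  Scheme.Modules.pullbackComp p g ≪≫ Scheme.Modules.pullbackCongr w

lemma cmp_res' {h : X'' ⟶ X} (w : p ≫ g = h) {W : X.Opens} {W' : X'.Opens} {W'' : X''.Opens}
    (e : W' ≤ g ⁻¹ᵁ W) (e' : W'' ≤ p ⁻¹ᵁ W') (s : Γ(M, W)) :
    ((cmp p g w).hom.app M).app W'' (res' p ((Scheme.Modules.pullback g).obj M) e' (res' g M e s)) =
      res' h M (W := W) (e'.trans ((p.preimage_mono e).trans (by subst w; exact le_rfl))) s := by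
  subst w
  have h1 : M2.pullSec p ((Scheme.Modules.pullback g).obj M) (res' g M e s) =
      M1.mres _ (p.preimage_mono e) (M2.pullSec p _ (M2.pullSec g M s)) := M1.app_mres _ e _
  rw [res', h1, M1.mres_mres]
  refine (M1.app_mres _ _ _).trans ?_
  refine congrArg _ ?_
  exact pullbackComp_pullSec p g M s

/-- The transition map on sections of pullbacks. -/
noncomputable def trans {h : X'' ⟶ X} (w : p ≫ g = h) {W' : X'.Opens} {W'' : X''.Opens}
    (e' : W'' ≤ p ⁻¹ᵁ W') (t : Γ((Scheme.Modules.pullback g).obj M, W')) :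
    Γ((Scheme.Modules.pullback h).obj M, W'') :=
  ((cmp p g w).hom.app M).app W'' (res' p _ e' t)

variable {h : X'' ⟶ X} (w : p ≫ g = h) {W' : X'.Opens} {W'' : X''.Opens} (e' : W'' ≤ p ⁻¹ᵁ W')

lemma trans_add (a b : Γ((Scheme.Modules.pullback g).obj M, W')) :
    trans p g M w e' (a + b) = trans p g M w e' a + trans p g M w e' b := by
  rw [trans, res'_add, map_add]; rfl

lemma trans_smul (c : Γ(X', W')) (a : Γ((Scheme.Modules.pullback g).obj M, W')) :
    trans p g M w e' (c • a) = p.appLE W' W'' e' c • trans p g M w e' a := by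
  rw [trans, res'_smul, Scheme.Modules.Hom.app_smul]; rfl

lemma trans_zero : trans p g M w e' 0 = 0 := by
  have := trans_add p g M w e' 0 0
  rw [add_zero] at this
  exact add_eq_left.1 this.symm

lemma trans_sum {ι : Type*} (s : Finset ι) (a : ι → Γ((Scheme.Modules.pullback g).obj M, W')) :
    trans p g M w e' (∑ i ∈ s, a i) = ∑ i ∈ s, trans p g M w e' (a i) :=
  map_sum (AddMonoidHom.mk' (trans p g M w e') (trans_add p g M w e')) a s

lemma trans_neg (a : Γ((Scheme.Modules.pullback g).obj M, W')) :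
    trans p g M w e' (-a) = -trans p g M w e' a :=
  map_neg (AddMonoidHom.mk' (trans p g M w e') (trans_add p g M w e')) a

lemma trans_sub (a b : Γ((Scheme.Modules.pullback g).obj M, W')) :
    trans p g M w e' (a - b) = trans p g M w e' a - trans p g M w e' b :=
  map_sub (AddMonoidHom.mk' (trans p g M w e') (trans_add p g M w e')) a b

lemma trans_res' {W : X.Opens} (e : W' ≤ g ⁻¹ᵁ W) (s : Γ(M, W)) :
    trans p g M w e' (res' g M e s) =
      res' h M (W := W) (e'.trans ((p.preimage_mono e).trans (by subst w; exact le_rfl))) s :=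
  cmp_res' p g M w e e' s

lemma mres_trans {V'' : X''.Opens} (i : V'' ≤ W'') (a : Γ((Scheme.Modules.pullback g).obj M, W')) :
    M1.mres _ i (trans p g M w e' a) = trans p g M w (i.trans e') a := by
  rw [trans, ← M1.app_mres]
  exact congrArg _ (mres_res' p _ e' i a)

lemma trans_mres {V' : X'.Opens} (i : V' ≤ W') {V'' : X''.Opens} (d : V'' ≤ p ⁻¹ᵁ V')
    (a : Γ((Scheme.Modules.pullback g).obj M, W')) :
    trans p g M w d (M1.mres _ i a) = trans p g M w (d.trans (p.preimage_mono i)) a := by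
  rw [trans, res'_mres]
  rfl

lemma trans_map {N : X.Modules} (φ : M ⟶ N) (a : Γ((Scheme.Modules.pullback g).obj M, W')) :
    ((Scheme.Modules.pullback h).map φ).app W'' (trans p g M w e' a) =
      trans p g N w e' (((Scheme.Modules.pullback g).map φ).app W' a) := by
  have hn := congrArg (fun m => m.app W'' (res' p _ e' a)) ((cmp p g w).hom.naturality φ)
  rw [trans]
  refine Eq.trans hn.symm ?_
  show ((cmp p g w).hom.app N).app W'' (((Scheme.Modules.pullback p).map ((Scheme.Modules.pullback g).map φ)).app W''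
    (res' p _ e' a)) = _
  rw [map_res']
  rfl

end Comp

section CompComp

variable {X''' : Scheme.{u}} (r : X''' ⟶ X'') (p : X'' ⟶ X') (g : X' ⟶ X) (M : X.Modules)
  {h : X'' ⟶ X} (w : p ≫ g = h) {h' : X''' ⟶ X} (w' : r ≫ h = h') (w'' : (r ≫ p) ≫ g = h')
  {W : X.Opens} {W' : X'.Opens} {W'' : X''.Opens} {W''' : X'''.Opens}

/-- Transition maps compose. -/
theorem trans_trans [Coh.IsQCoh M] (hW : IsAffineOpen W) (hW' : IsAffineOpen W') (e : W' ≤ g ⁻¹ᵁ W)
    (e' : W'' ≤ p ⁻¹ᵁ W') (e'' : W''' ≤ r ⁻¹ᵁ W'') (a : Γ((Scheme.Modules.pullback g).obj M, W')) :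
    trans r h M w' e'' (trans p g M w e' a) =
      trans (r ≫ p) g M w'' (W' := W') (e''.trans (r.preimage_mono e')) a := by
  induction a using pullback_induction g M e hW hW' with
  | h0 => rw [trans_zero, trans_zero, trans_zero]
  | hadd a b ha hb => rw [trans_add, trans_add, trans_add, ha, hb]
  | hres c s =>
    rw [trans_smul, trans_smul, trans_smul, trans_res', trans_res', trans_res']
    congr 1
    rw [← CommRingCat.comp_apply, Scheme.Hom.appLE_comp_appLE]

end CompComp

end Groth.Agent.ModLimH13
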