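import Groth.Agent.Lib.ModLimH13.Colim
import Groth.Agent.Lib.ModM1.Coh
import Groth.Agent.Lib.ModM1.Exact
import Mathlib.CategoryTheory.Abelian.Exact

/-!
# Homomorphisms of modules along a limit of schemes: injectivity
-/

universe u

set_option linter.style.haveILetI false
set_option backward.isDefEq.respectTransparency false

open AlgebraicGeometry CategoryTheory Limits

namespace Groth.Agent.ModLimH13

section

variable {X X' : Scheme.{u}}

/-- Homomorphisms of modules that agree on the sections over small affine opens are equal. -/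
theorem hom_ext_affine {M N : X.Modules} (α β : M ⟶ N)
    (h : ∀ x : X, ∃ U : X.Opens, x ∈ U ∧ ∀ W : X.Opens, W ≤ U → IsAffineOpen W →
      ∀ s, α.app W s = β.app W s) : α = β := by
  ext O s
  refine M1.section_ext _ _ fun x hx => ?_
  obtain ⟨U, hxU, hU⟩ := h x
  obtain ⟨_, ⟨W, hW, rfl⟩, hxW, hWle⟩ := X.isBasis_affineOpens.exists_subset_of_mem_open
    (show x ∈ ((U ⊓ O : X.Opens) : Set X) from ⟨hxU, hx⟩) (U ⊓ O).isOpen
  have e : ∀ γ : M ⟶ N, N.presheaf.germ O x hx (γ.app O s) =
      N.presheaf.germ W x hxW (γ.app W (M1.mres M (le_trans hWle inf_le_right) s)) := fun γ => by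
    rw [M1.app_mres]
    exact (TopCat.Presheaf.germ_res_apply N.presheaf (homOfLE (le_trans hWle inf_le_right)) x hxW _).symm
  rw [e, e, hU W (le_trans hWle inf_le_left) hW]

/-- Pullback homomorphisms that agree on generators are equal. -/
theorem pullback_hom_ext (g : X' ⟶ X) (M : X.Modules) [Coh.IsQCoh M] {N : X'.Modules}
    (α β : (Scheme.Modules.pullback g).obj M ⟶ N)
    (h : ∀ x : X, ∃ (V : X.Opens) (T : Set Γ(M, V)), x ∈ V ∧ IsAffineOpen V ∧
      Submodule.span Γ(X, V) T = ⊤ ∧
        ∀ s ∈ T, α.app (g ⁻¹ᵁ V) (res' g M le_rfl s) = β.app (g ⁻¹ᵁ V) (res' g M le_rfl s)) :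
    α = β := by
  refine hom_ext_affine α β fun x' => ?_
  obtain ⟨V, T, hxV, hV, hT, hs⟩ := h (g x')
  refine ⟨g ⁻¹ᵁ V, hxV, fun W hW hWa t => ?_⟩
  induction t using pullback_induction g M hW hV hWa with
  | h0 => rw [map_zero, map_zero]
  | hadd a b ha hb => rw [map_add, map_add, ha, hb]
  | hres c s =>
    rw [Scheme.Modules.Hom.app_smul, Scheme.Modules.Hom.app_smul,
      show res' g M hW s = M1.mres _ hW (res' g M le_rfl s) from (mres_res' g M _ hW s).symm,
      M1.app_mres, M1.app_mres]
    refine congrArg (fun z => c • (M1.mres N hW z)) ?_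
    have hs' : s ∈ Submodule.span Γ(X, V) T := by rw [hT]; trivial
    induction hs' using Submodule.span_induction with
    | mem s hsT => exact hs s hsT
    | zero =>
      rw [show res' g M (W := V) (le_rfl : g ⁻¹ᵁ V ≤ _) 0 = 0 from by
        simp [res', show M2.pullSec g M (0 : Γ(M, V)) = 0 from map_zero _], map_zero, map_zero]
    | add a b _ _ ha hb => rw [res'_add, map_add, map_add, ha, hb]
    | smul r a _ ha =>
      rw [res'_smul, Scheme.Modules.Hom.app_smul, Scheme.Modules.Hom.app_smul, ha]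

/-- The kernel of an epimorphism from a module of finite type onto one of finite presentation is
of finite type. -/
theorem isFT_kernel {M N : X.Modules} (hMq : Coh.IsQCoh M) (hM : CohB1.IsFT M) (hN : CohB1.IsFP N)
    (f : M ⟶ N) [Epi f] : CohB1.IsFT (kernel f) := by
  have hNq := M1.isFP_isQCoh hN
  refine M1.isFT_of_finite_sections (M1.isQCoh_kernel hMq hNq f) fun U hU => ?_
  haveI := M1.finite_sections hMq hM hU
  haveI := M1.finitePresentation_sections hN hU
  let fU : Γ(M, U) →ₗ[Γ(X, U)] Γ(N, U) :=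
    { toFun := f.app U
      map_add' := map_add _
      map_smul' := fun r s => f.app_smul r s }
  let ι : Γ(kernel f, U) →ₗ[Γ(X, U)] Γ(M, U) :=
    { toFun := (kernel.ι f).app U
      map_add' := map_add _
      map_smul' := fun r s => (kernel.ι f).app_smul r s }
  have hι : Function.Injective ι := M1.app_injective _ U
  have hker : LinearMap.ker fU = LinearMap.range ι := by
    refine le_antisymm (fun b hb => ?_) ?_
    · obtain ⟨a, ha⟩ := M1.sections_exact
        (S := ShortComplex.mk (kernel.ι f) f (kernel.condition f))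
        (ShortComplex.exact_of_f_is_kernel _ (kernelIsKernel f)) U b hb
      exact ⟨a, ha⟩
    · rintro _ ⟨a, rfl⟩
      have h0 := congrArg (fun φ => φ.app U a) (kernel.condition f)
      exact h0
  haveI : Module.Finite Γ(X, U) (LinearMap.range ι) := Module.Finite.iff_fg.2 (hker ▸
    Module.FinitePresentation.fg_ker fU (M1.app_surjective_affine_of_isQCoh hMq hNq f hU))
  exact Module.Finite.equiv (LinearEquiv.ofInjective ι hι).symm

/-- An epimorphism onto `N` with quasi-coherent source, killed cokernel map. -/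
theorem epi_map_iff (g : X' ⟶ X) {M N : X.Modules} (f : M ⟶ N) :
    Epi ((Scheme.Modules.pullback g).map f) ↔
      (Scheme.Modules.pullback g).map (cokernel.π f) = (Scheme.Modules.pullback g).map 0 := by
  haveI := (Scheme.Modules.pullbackPushforwardAdjunction g).leftAdjoint_preservesColimits
  haveI := (Scheme.Modules.pullbackPushforwardAdjunction g).left_adjoint_additive
  rw [Functor.map_zero]
  constructor
  · intro h
    rw [← cancel_epi ((Scheme.Modules.pullback g).map f), ← Functor.map_comp, cokernel.condition,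
      Functor.map_zero, comp_zero]
  · intro h
    refine Preadditive.epi_of_cancel_zero _ fun k hk => ?_
    obtain ⟨l, hl⟩ : ∃ l, (Scheme.Modules.pullback g).map (cokernel.π f) ≫ l = k :=
      ⟨inv (cokernelComparison f (Scheme.Modules.pullback g)) ≫ cokernel.desc _ k hk, by
        rw [← π_comp_cokernelComparison f (Scheme.Modules.pullback g), Category.assoc,
          IsIso.hom_inv_id_assoc, cokernel.π_desc]⟩
    rw [← hl, h, zero_comp]

end

variable {I : Type u} [SmallCategory I] [IsCofiltered I] {D : I ⥤ Scheme.{u}} {c : Cone D}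
  (hc : IsLimit c) [∀ (i j : I) (f : i ⟶ j), IsAffineHom (D.map f)] {i₀ : I}

omit [∀ (i j : I) (f : i ⟶ j), IsAffineHom (D.map f)] in
/-- A common stage for finitely many monotone conditions. -/
theorem exists_common {ι : Type*} (s : Finset ι) {j : I} (P : ι → ∀ (k : I), (k ⟶ j) → Prop)
    (mono : ∀ i (k k' : I) (α : k ⟶ j) (β : k' ⟶ k), P i k α → P i k' (β ≫ α))
    (h : ∀ i ∈ s, ∃ (k : I) (α : k ⟶ j), P i k α) :
    ∃ (k : I) (α : k ⟶ j), ∀ i ∈ s, P i k α := by
  classical
  induction s using Finset.induction with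
  | empty => exact ⟨j, 𝟙 j, fun i hi => absurd hi (Finset.notMem_empty i)⟩
  | insert i s hi ih =>
    obtain ⟨k₁, α₁, h₁⟩ := ih fun i' hi' => h i' (Finset.mem_insert_of_mem hi')
    obtain ⟨k₂, α₂, h₂⟩ := h i (Finset.mem_insert_self i s)
    obtain ⟨n, γ, δ, hγ⟩ := IsCofiltered.cospan α₁ α₂
    refine ⟨n, γ ≫ α₁, fun i' hi' => ?_⟩
    rcases Finset.mem_insert.1 hi' with rfl | hi'
    · exact hγ ▸ mono _ _ _ _ _ h₂
    · exact mono _ _ _ _ _ (h₁ i' hi')

lemma map_pullback_eq_of_comp {X X' X'' : Scheme.{u}} (p : X'' ⟶ X') (g : X' ⟶ X) {h : X'' ⟶ X}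
    (w : p ≫ g = h) {M N : X.Modules} (φ ψ : M ⟶ N)
    (e : (Scheme.Modules.pullback g).map φ = (Scheme.Modules.pullback g).map ψ) :
    (Scheme.Modules.pullback h).map φ = (Scheme.Modules.pullback h).map ψ := by
  rw [← NatIso.naturality_1 (cmp p g w) φ, ← NatIso.naturality_1 (cmp p g w) ψ]
  simp only [Functor.comp_map, e]

lemma map_pullback_eq_iff_of_comp {X X' X'' : Scheme.{u}} (p : X'' ⟶ X') (g : X' ⟶ X) {h : X'' ⟶ X}
    (w : p ≫ g = h) {M N : X.Modules} (φ ψ : M ⟶ N) :
    (Scheme.Modules.pullback p).map ((Scheme.Modules.pullback g).map φ) =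
        (Scheme.Modules.pullback p).map ((Scheme.Modules.pullback g).map ψ) ↔
      (Scheme.Modules.pullback h).map φ = (Scheme.Modules.pullback h).map ψ := by
  rw [← NatIso.naturality_1 (cmp p g w) φ, ← NatIso.naturality_1 (cmp p g w) ψ]
  simp only [Functor.comp_map, cancel_epi, cancel_mono]

include hc in
/-- Two homomorphisms from a module of finite type that become equal on the limit are equal at a
stage. -/
theorem exists_map_eq [CompactSpace (D.obj i₀)] {F G : (D.obj i₀).Modules} [Coh.IsQCoh F]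
    (hF : CohB1.IsFT F) [Coh.IsQCoh G] (φ ψ : F ⟶ G)
    (h : (Scheme.Modules.pullback (c.π.app i₀)).map φ = (Scheme.Modules.pullback (c.π.app i₀)).map ψ) :
    ∃ (j : I) (α : j ⟶ i₀),
      (Scheme.Modules.pullback (D.map α)).map φ = (Scheme.Modules.pullback (D.map α)).map ψ := by
  classical
  obtain ⟨s, hs⟩ := isCompact_univ.elim_finite_subcover
    (fun V : (D.obj i₀).affineOpens => ((V : (D.obj i₀).Opens) : Set (D.obj i₀)))
    (fun V => (V : (D.obj i₀).Opens).isOpen) (fun x _ => by
      obtain ⟨_, ⟨V, hV, rfl⟩, hxV, -⟩ := (D.obj i₀).isBasis_affineOpens.exists_subset_of_mem_open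
        (Set.mem_univ x) isOpen_univ
      exact Set.mem_iUnion.2 ⟨⟨V, hV⟩, hxV⟩)
  have hfin : ∀ V : (D.obj i₀).affineOpens, ∃ T : Finset Γ(F, (V : (D.obj i₀).Opens)),
      Submodule.span Γ(D.obj i₀, (V : (D.obj i₀).Opens)) (↑T : Set Γ(F, (V : (D.obj i₀).Opens))) = ⊤ := fun V =>
    (M1.finite_sections ‹Coh.IsQCoh F› hF V.2).fg_top
  choose T hT using hfin
  let P : (Σ V : (D.obj i₀).affineOpens, Γ(F, (V : (D.obj i₀).Opens))) →
      ∀ (k : I), (k ⟶ i₀) → Prop := fun q k α =>
    res' (D.map α) G (W := q.1.1) (le_refl (D.map α ⁻¹ᵁ q.1.1)) (φ.app _ q.2) =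
      res' (D.map α) G (W := q.1.1) le_rfl (ψ.app _ q.2)
  obtain ⟨k, α, hk⟩ := exists_common (s.sigma T) P (fun q k k' α β hq => by
      have e := congrArg (trans (D.map β) (D.map α) G (D.map_comp β α).symm (le_step β α q.1.1)) hq
      rw [trans_res', trans_res'] at e
      exact e)
    (fun q hq => by
      have hs' := congrArg (fun m => m.app (c.π.app i₀ ⁻¹ᵁ q.1.1)
        (res' (c.π.app i₀) F (W := q.1.1) le_rfl q.2)) h
      simp only [map_res'] at hs'
      obtain ⟨k, α, hα⟩ := exists_trans_eq_zero hc G q.1.2 (𝟙 i₀)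
        (res' (D.map (𝟙 i₀)) G (W := q.1.1) le_rfl (φ.app _ q.2) -
          res' (D.map (𝟙 i₀)) G (W := q.1.1) le_rfl (ψ.app _ q.2))
        (by rw [trans_sub, trans_res', trans_res', sub_eq_zero]; exact hs')
      rw [trans_sub, trans_res', trans_res', sub_eq_zero] at hα
      exact ⟨k, α ≫ 𝟙 i₀, hα⟩)
  refine ⟨k, α, pullback_hom_ext (D.map α) F _ _ fun x => ?_⟩
  obtain ⟨V, hVs, hxV⟩ := Set.mem_iUnion₂.1 (hs (Set.mem_univ x))
  refine ⟨V, T V, hxV, V.2, hT V, fun t ht => ?_⟩
  rw [map_res', map_res']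
  exact hk ⟨V, t⟩ (Finset.mem_sigma.2 ⟨hVs, ht⟩)

section Props

variable {X X' X'' : Scheme.{u}} (p : X'' ⟶ X') (g : X' ⟶ X) {h : X'' ⟶ X} (w : p ≫ g = h)
  {M N P : X.Modules} (f : M ⟶ N) (f' : N ⟶ P)

include w in
lemma epi_map_comp_iff :
    Epi ((Scheme.Modules.pullback p).map ((Scheme.Modules.pullback g).map f)) ↔
      Epi ((Scheme.Modules.pullback h).map f) :=
  (MorphismProperty.epimorphisms _).arrow_mk_iso_iff
    (Arrow.isoMk ((cmp p g w).app M) ((cmp p g w).app N) ((cmp p g w).hom.naturality f).symm)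

include w in
lemma isIso_map_comp_iff :
    IsIso ((Scheme.Modules.pullback p).map ((Scheme.Modules.pullback g).map f)) ↔
      IsIso ((Scheme.Modules.pullback h).map f) :=
  (MorphismProperty.isomorphisms _).arrow_mk_iso_iff
    (Arrow.isoMk ((cmp p g w).app M) ((cmp p g w).app N) ((cmp p g w).hom.naturality f).symm)

include w in
lemma exact_map_comp_iff
    (z : (Scheme.Modules.pullback p).map ((Scheme.Modules.pullback g).map f) ≫
      (Scheme.Modules.pullback p).map ((Scheme.Modules.pullback g).map f') = 0)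
    (z' : (Scheme.Modules.pullback h).map f ≫ (Scheme.Modules.pullback h).map f' = 0) :
    (ShortComplex.mk _ _ z).Exact ↔ (ShortComplex.mk _ _ z').Exact :=
  ShortComplex.exact_iff_of_iso (ShortComplex.isoMk ((cmp p g w).app M) ((cmp p g w).app N)
    ((cmp p g w).app P) ((cmp p g w).hom.naturality f).symm ((cmp p g w).hom.naturality f').symm)

end Props

instance pullback_preservesColimits {X X' : Scheme.{u}} (g : X' ⟶ X) :
    PreservesColimitsOfSize.{0, 0} (Scheme.Modules.pullback g) :=
  (Scheme.Modules.pullbackPushforwardAdjunction g).leftAdjoint_preservesColimits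

instance pullback_additive {X X' : Scheme.{u}} (g : X' ⟶ X) : (Scheme.Modules.pullback g).Additive :=
  (Scheme.Modules.pullbackPushforwardAdjunction g).left_adjoint_additive

/-- A right exact sequence stays so after pulling back. -/
theorem exact_map_kernel {X X' : Scheme.{u}} (g : X' ⟶ X) {M N : X.Modules} (f : M ⟶ N) [Epi f]
    (z : (Scheme.Modules.pullback g).map (kernel.ι f) ≫ (Scheme.Modules.pullback g).map f = 0) :
    (ShortComplex.mk _ _ z).Exact :=
  ShortComplex.Exact.map_of_epi_of_preservesCokernel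
    (S := ShortComplex.mk (kernel.ι f) f (kernel.condition f))
    (ShortComplex.exact_of_f_is_kernel _ (kernelIsKernel f)) (Scheme.Modules.pullback g) ‹_› inferInstance

theorem map_kernel_zero {X X' : Scheme.{u}} (g : X' ⟶ X) {M N : X.Modules} (f : M ⟶ N) :
    (Scheme.Modules.pullback g).map (kernel.ι f) ≫ (Scheme.Modules.pullback g).map f = 0 := by
  rw [← Functor.map_comp, kernel.condition, Functor.map_zero]

/-- For an epimorphism, factorisation after pullback is vanishing on the kernel. -/
theorem exists_factor_iff {X X' : Scheme.{u}} (g : X' ⟶ X) {M N P : X.Modules} (f : M ⟶ N) [Epi f]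
    (q : M ⟶ P) :
    (∃ k : (Scheme.Modules.pullback g).obj N ⟶ (Scheme.Modules.pullback g).obj P,
        (Scheme.Modules.pullback g).map f ≫ k = (Scheme.Modules.pullback g).map q) ↔
      (Scheme.Modules.pullback g).map (kernel.ι f ≫ q) = (Scheme.Modules.pullback g).map 0 := by
  rw [Functor.map_comp, Functor.map_zero]
  constructor
  · rintro ⟨k, hk⟩
    rw [← hk, ← Category.assoc, map_kernel_zero, zero_comp]
  · intro h
    haveI : Epi (ShortComplex.mk _ _ (map_kernel_zero g f)).g :=
      inferInstanceAs (Epi ((Scheme.Modules.pullback g).map f))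
    exact ⟨_, (CokernelCofork.IsColimit.desc' (exact_map_kernel g f (map_kernel_zero g f)).gIsCokernel
      _ h).2⟩

/-- Exactness on the right after pullback, as an isomorphism from the cokernel. -/
theorem exact_epi_iff {X X' : Scheme.{u}} (g : X' ⟶ X) {M N P : X.Modules} (f : M ⟶ N) (f' : N ⟶ P)
    (w : f ≫ f' = 0)
    (z : (Scheme.Modules.pullback g).map f ≫ (Scheme.Modules.pullback g).map f' = 0) :
    ((ShortComplex.mk _ _ z).Exact ∧ Epi ((Scheme.Modules.pullback g).map f')) ↔
      IsIso ((Scheme.Modules.pullback g).map (cokernel.desc f f' w)) := by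
  have hd : cokernelComparison f (Scheme.Modules.pullback g) ≫
      (Scheme.Modules.pullback g).map (cokernel.desc f f' w) = cokernel.desc _ _ z :=
    cokernelComparison_map_desc _ _ _
  rw [ShortComplex.exact_iff_mono_cokernel_desc]
  show Mono (cokernel.desc _ _ z) ∧ _ ↔ _
  constructor
  · rintro ⟨h1, h2⟩
    haveI : Epi (cokernel.desc _ _ z) := epi_of_epi_fac (cokernel.π_desc _ _ z)
    haveI : IsIso (cokernel.desc _ _ z) := isIso_of_mono_of_epi _
    exact IsIso.of_isIso_fac_left hd
  · intro h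
    haveI : IsIso (cokernel.desc _ _ z) := hd ▸ inferInstance
    refine ⟨inferInstance, ?_⟩
    rw [← cokernel.π_desc _ _ z]
    infer_instance

include hc in
/-- A homomorphism from a module of finite type to one of finite presentation is an isomorphism on
the limit exactly when it is one at a stage. -/
theorem isIso_map_iff [CompactSpace (D.obj i₀)] {F G : (D.obj i₀).Modules} [Coh.IsQCoh F]
    (hF : CohB1.IsFT F) [Coh.IsQCoh G] (hG : CohB1.IsFP G) (f : F ⟶ G) :
    IsIso ((Scheme.Modules.pullback (c.π.app i₀)).map f) ↔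
      ∃ (j : I) (φ : j ⟶ i₀), IsIso ((Scheme.Modules.pullback (D.map φ)).map f) := by
  constructor
  · intro hi
    haveI : Coh.IsQCoh (cokernel f) := M1.isQCoh_cokernel ‹Coh.IsQCoh F› ‹Coh.IsQCoh G› f
    obtain ⟨j, φ, hφ⟩ := exists_map_eq hc (M1.isFP_isFT hG) _ _
      ((epi_map_iff _ f).1 inferInstance)
    haveI : Epi ((Scheme.Modules.pullback (D.map φ)).map f) := (epi_map_iff _ f).2 hφ
    haveI : CompactSpace (D.obj j) := QuasiCompact.compactSpace_of_compactSpace (D.map φ)
    let f₁ := (Scheme.Modules.pullback (D.map φ)).map f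
    have qF := M1.isQCoh_pullback (D.map φ) (M := F) ‹_›
    haveI : Coh.IsQCoh ((Scheme.Modules.pullback (D.map φ)).obj F) := qF
    haveI : Coh.IsQCoh (kernel f₁) :=
      M1.isQCoh_kernel qF (M1.isQCoh_pullback (D.map φ) (M := G) ‹_›) f₁
    haveI : IsIso ((Scheme.Modules.pullback (c.π.app j)).map f₁) :=
      (isIso_map_comp_iff _ _ (c.w φ) f).2 hi
    have h1 : (Scheme.Modules.pullback (c.π.app j)).map (kernel.ι f₁) =
        (Scheme.Modules.pullback (c.π.app j)).map 0 := by
      rw [Functor.map_zero, ← cancel_mono ((Scheme.Modules.pullback (c.π.app j)).map f₁),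
        map_kernel_zero, zero_comp]
    obtain ⟨k, α, hk⟩ := exists_map_eq hc
      (isFT_kernel qF (M1.isFT_pullback _ hF) (M1.isFP_pullback _ hG) f₁) _ _ h1
    rw [Functor.map_zero] at hk
    refine ⟨k, α ≫ φ, (isIso_map_comp_iff (D.map α) (D.map φ) (D.map_comp α φ).symm f).1 ?_⟩
    haveI : Mono ((Scheme.Modules.pullback (D.map α)).map f₁) :=
      (exact_map_kernel (D.map α) f₁ (map_kernel_zero _ f₁)).mono_g hk
    exact isIso_of_mono_of_epi _
  · rintro ⟨j, φ, h⟩
    exact (isIso_map_comp_iff (c.π.app j) (D.map φ) (c.w φ) f).1 inferInstance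

end Groth.Agent.ModLimH13
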