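import Groth.Agent.Lib.ModM1.Stalk
import Groth.Agent.Lib.ModM1.Exact
import Groth.Agent.Lib.AffHom12.Open

/-!
# Gluing homomorphisms of modules given on sections over affine opens
-/

universe u

set_option linter.style.haveILetI false
set_option backward.isDefEq.respectTransparency false

open AlgebraicGeometry CategoryTheory Limits

namespace Groth.Agent.ModLimH13

variable {X : Scheme.{u}} (F N : X.Modules)

/-- A linear family of maps on the sections over the opens contained in `W`. -/
structure LocalHom (W : X.Opens) where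
  /-- The maps on sections. -/
  app : ∀ O : X.Opens, O ≤ W → (Γ(F, O) →+ Γ(N, O))
  app_smul : ∀ (O : X.Opens) (h : O ≤ W) (r : Γ(X, O)) (s : Γ(F, O)),
    app O h (r • s) = r • app O h s
  app_mres : ∀ (O O' : X.Opens) (h : O ≤ W) (i : O' ≤ O) (s : Γ(F, O)),
    app O' (i.trans h) (M1.mres F i s) = M1.mres N i (app O h s)

variable {F N}

/-- A linear family is determined on a smaller open by the sections over an affine open. -/
theorem LocalHom.ext_of_affine [Coh.IsQCoh F] {V W W₁ W₂ : X.Opens} (hV : IsAffineOpen V) (hWV : W ≤ V)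
    (φ : LocalHom F N W₁) (ψ : LocalHom F N W₂) (h₁ : W ≤ W₁) (h₂ : W ≤ W₂)
    (h : ∀ s : Γ(F, V), φ.app W h₁ (M1.mres F hWV s) = ψ.app W h₂ (M1.mres F hWV s))
    {O : X.Opens} (hO : O ≤ W) (σ : Γ(F, O)) :
    φ.app O (hO.trans h₁) σ = ψ.app O (hO.trans h₂) σ := by
  refine M1.section_ext _ _ fun x hx => ?_
  obtain ⟨r, m, hr, hm⟩ := M1.exists_germ_smul_eq F hV (hWV (hO hx)) (F.presheaf.germ O x hx σ)
  have hm' : F.presheaf.germ O x hx (X.presheaf.map (homOfLE (hO.trans hWV)).op r • σ) =
      F.presheaf.germ O x hx (M1.mres F (hO.trans hWV) m) := by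
    rw [M1.germ_smul, M1.germ_mres, TopCat.Presheaf.germ_res_apply, hm]
  obtain ⟨O', hxO', i₁, i₂, he⟩ := F.presheaf.germ_eq x hx hx _ _ hm'
  have hO' : O' ≤ O := i₁.le
  have he' : M1.mres F hO' (X.presheaf.map (homOfLE (hO.trans hWV)).op r • σ) =
      M1.mres F hO' (M1.mres F (hO.trans hWV) m) := he
  have e1 := congrArg (φ.app O' (hO'.trans (hO.trans h₁))) he'
  have e2 := congrArg (ψ.app O' (hO'.trans (hO.trans h₂))) he'
  rw [M1.mres_mres, φ.app_mres O O' (hO.trans h₁) hO', φ.app_smul,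
    show M1.mres F (hO'.trans (hO.trans hWV)) m = M1.mres F (hO'.trans hO) (M1.mres F hWV m) from
      (M1.mres_mres _ _ _ _).symm, φ.app_mres W O' h₁ (hO'.trans hO), h, ← ψ.app_mres] at e1
  rw [M1.mres_mres, ψ.app_mres O O' (hO.trans h₂) hO', ψ.app_smul,
    show M1.mres F (hO'.trans (hO.trans hWV)) m = M1.mres F (hO'.trans hO) (M1.mres F hWV m) from
      (M1.mres_mres _ _ _ _).symm] at e2
  have e3 := congrArg (N.presheaf.germ O' x hxO') (e1.trans e2.symm)
  rw [M1.germ_mres, M1.germ_mres, M1.germ_smul, M1.germ_smul,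
    TopCat.Presheaf.germ_res_apply] at e3
  exact (IsUnit.smul_left_cancel hr).1 e3

/-- A linear map on the sections over an affine open extends to the opens inside it. -/
theorem exists_localHom [Coh.IsQCoh F] {W : X.Opens} (hW : IsAffineOpen W)
    (l : Γ(F, W) →+ Γ(N, W)) (hl : ∀ (r : Γ(X, W)) (s : Γ(F, W)), l (r • s) = r • l s) :
    ∃ φ : LocalHom F N W, ∀ s, φ.app W le_rfl s = l s := by
  let K := (Scheme.Modules.pushforward W.ι).obj (N.restrict W.ι)
  let η : N ⟶ K := (Scheme.Modules.restrictAdjunction W.ι).unit.app N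
  haveI : IsIso ((Scheme.Modules.restrictAdjunction W.ι).unit.app K) := by
    have t := (Scheme.Modules.restrictAdjunction W.ι).right_triangle_components (N.restrict W.ι)
    haveI : IsIso ((Scheme.Modules.restrictAdjunction W.ι).counit.app (N.restrict W.ι)) := by
      refine Scheme.Modules.Hom.isIso_iff_isIso_app.2 fun U => ?_
      rw [Scheme.Modules.restrictAdjunction_counit_app_app]
      exact Functor.map_isIso (N.restrict W.ι).presheaf _
    haveI : IsIso ((Scheme.Modules.restrictAdjunction W.ι).unit.app K ≫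
        (Scheme.Modules.pushforward W.ι).map
          ((Scheme.Modules.restrictAdjunction W.ι).counit.app (N.restrict W.ι))) := by
      rw [t]; infer_instance
    exact IsIso.of_isIso_comp_right _
      ((Scheme.Modules.pushforward W.ι).map ((Scheme.Modules.restrictAdjunction W.ι).counit.app (N.restrict W.ι)))
  have hη : ∀ O : X.Opens, O ≤ W → Function.Bijective (η.app O) := fun O hO => by
    have e : W.ι ''ᵁ W.ι ⁻¹ᵁ O = O := by
      rw [Scheme.Hom.image_preimage_eq_opensRange_inf, Scheme.Opens.opensRange_ι,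
        inf_eq_right.2 hO]
    haveI : IsIso (η.app O) := by
      rw [Scheme.Modules.restrictAdjunction_unit_app_app,
        show homOfLE (W.ι.image_preimage_le O) = eqToHom e from Subsingleton.elim _ _]
      infer_instance
    exact ConcreteCategory.bijective_of_isIso (η.app O)
  obtain ⟨Φ, hΦ⟩ := AffHom12.exists_hom_on hW ‹Coh.IsQCoh F› (K := K)
    ((η.app W).hom.comp l) (fun r s => by
      show η.app W (l (r • s)) = r • η.app W (l s)
      rw [hl, η.app_smul])
  let inv := fun (O : X.Opens) (hO : O ≤ W) => AddEquiv.ofBijective (η.app O).hom (hη O hO)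
  refine ⟨⟨fun O hO => (inv O hO).symm.toAddMonoidHom.comp (Φ.app O).hom, fun O hO r s => ?_,
    fun O O' hO i s => ?_⟩, fun s => ?_⟩
  · refine (hη O hO).1 ?_
    show (inv O hO) ((inv O hO).symm (Φ.app O (r • s))) = η.app O (r • (inv O hO).symm (Φ.app O s))
    rw [AddEquiv.apply_symm_apply, Φ.app_smul, η.app_smul]
    exact congrArg (r • ·) ((inv O hO).apply_symm_apply _).symm
  · refine (hη O' (i.trans hO)).1 ?_
    show (inv O' (i.trans hO)) ((inv O' (i.trans hO)).symm (Φ.app O' (M1.mres F i s))) =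
      η.app O' (M1.mres N i ((inv O hO).symm (Φ.app O s)))
    rw [AddEquiv.apply_symm_apply, M1.app_mres, M1.app_mres]
    exact congrArg (M1.mres K i) ((inv O hO).apply_symm_apply _).symm
  · show (inv W le_rfl).symm (Φ.app W s) = l s
    rw [hΦ]
    exact (inv W le_rfl).symm_apply_apply (l s)

variable {ι : Type*} {V : ι → X.Opens}

/-- Compatible local families glue to a homomorphism. -/
theorem exists_hom_of_localHom (hcov : ⨆ a, V a = ⊤) (φ : ∀ a, LocalHom F N (V a))
    (h : ∀ (a b : ι) (O : X.Opens) (ha : O ≤ V a) (hb : O ≤ V b) (s : Γ(F, O)),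
      (φ a).app O ha s = (φ b).app O hb s) :
    ∃ Φ : F ⟶ N, ∀ (a : ι) (O : X.Opens) (ha : O ≤ V a) (s : Γ(F, O)),
      Φ.app O s = (φ a).app O ha s := by
  have hex : ∀ (O : X.Opens) (s : Γ(F, O)), ∃ τ : Γ(N, O), ∀ (a : ι) (O' : X.Opens) (i : O' ≤ O)
      (ha : O' ≤ V a), M1.mres N i τ = (φ a).app O' ha (M1.mres F i s) := fun O s => by
    obtain ⟨τ, hτ, -⟩ := TopCat.Sheaf.existsUnique_gluing' ⟨_, N.isSheaf⟩ (fun a => O ⊓ V a) O
      (fun a => homOfLE inf_le_left) (by rw [← inf_iSup_eq, hcov, inf_top_eq])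
      (fun a => (φ a).app (O ⊓ V a) inf_le_right (M1.mres F inf_le_left s)) fun a b => by
        show M1.mres N (inf_le_left : (O ⊓ V a) ⊓ (O ⊓ V b) ≤ O ⊓ V a) _ =
          M1.mres N (inf_le_right : (O ⊓ V a) ⊓ (O ⊓ V b) ≤ O ⊓ V b) _
        rw [← (φ a).app_mres, ← (φ b).app_mres, M1.mres_mres, M1.mres_mres]
        exact h a b _ _ _ _
    refine ⟨τ, fun a O' i ha => ?_⟩
    rw [← M1.mres_mres N (inf_le_left : O ⊓ V a ≤ O) (le_inf i ha)]
    refine (congrArg (M1.mres N (le_inf i ha)) (hτ a)).trans ?_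
    rw [← (φ a).app_mres, M1.mres_mres]
  choose f hf using hex
  have huniq : ∀ (O : X.Opens) (s : Γ(F, O)) (τ : Γ(N, O)),
      (∀ a, M1.mres N (inf_le_left : O ⊓ V a ≤ O) τ =
        (φ a).app (O ⊓ V a) inf_le_right (M1.mres F inf_le_left s)) → f O s = τ := fun O s τ hτ =>
    M1.modules_eq_of_locally_eq N O (fun a => O ⊓ V a) (fun a => inf_le_left)
      (by rw [← inf_iSup_eq, hcov, inf_top_eq]) _ _ fun a =>
        (hf O s a _ inf_le_left inf_le_right).trans (hτ a).symm
  have hadd : ∀ (O : X.Opens) (s t : Γ(F, O)), f O (s + t) = f O s + f O t := fun O s t =>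
    huniq _ _ _ fun a => by
      rw [map_add, map_add, map_add, hf O s a _ inf_le_left inf_le_right,
        hf O t a _ inf_le_left inf_le_right]
  have hres : ∀ (O O' : X.Opens) (i : O' ≤ O) (s : Γ(F, O)),
      f O' (M1.mres F i s) = M1.mres N i (f O s) := fun O O' i s =>
    huniq _ _ _ fun a => by
      rw [M1.mres_mres, M1.mres_mres]
      exact hf _ _ a _ _ _
  have hsmul : ∀ (O : X.Opens) (r : Γ(X, O)) (s : Γ(F, O)), f O (r • s) = r • f O s := fun O r s =>
    huniq _ _ _ fun a => by
      rw [M1.mres_smul, M1.mres_smul, (φ a).app_smul, hf _ s a _ inf_le_left inf_le_right]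
  let Φ : F ⟶ N := ⟨PresheafOfModules.homMk
    { app := fun O => AddCommGrpCat.ofHom (AddMonoidHom.mk' (f O.unop) (hadd O.unop))
      naturality := fun O O' i => by
        ext s
        exact hres O.unop O'.unop (leOfHom i.unop) s }
    (fun O r s => hsmul O.unop r s)⟩
  refine ⟨Φ, fun a O ha s => ?_⟩
  show f O s = _
  exact (M1.mres_id N le_rfl _).symm.trans ((hf O s a O le_rfl ha).trans (by rw [M1.mres_id]))

end Groth.Agent.ModLimH13
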