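import Groth.Agent.Lib.ModLimH13.Hom1
import Groth.Agent.Lib.ModLimH13.Glue

/-!
# Homomorphisms of modules along a limit of schemes: descent
-/

universe u

set_option linter.style.haveILetI false
set_option backward.isDefEq.respectTransparency false

open AlgebraicGeometry CategoryTheory Limits

namespace Groth.Agent.ModLimH13

lemma exists_finset_affine_cover {X : Scheme.{u}} (U : X.Opens) (hU : IsCompact (U : Set X)) :
    ∃ s : Finset X.affineOpens, (∀ W ∈ s, (W : X.Opens) ≤ U) ∧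
      ∀ x ∈ U, ∃ W ∈ s, x ∈ (W : X.Opens) := by
  obtain ⟨s, hs⟩ := hU.elim_finite_subcover
    (fun W : {W : X.affineOpens // (W : X.Opens) ≤ U} => ((W.1 : X.Opens) : Set X))
    (fun W => (W.1 : X.Opens).isOpen) (fun x hx => by
      obtain ⟨_, ⟨V, hV, rfl⟩, hxV, hVU⟩ := X.isBasis_affineOpens.exists_subset_of_mem_open hx U.isOpen
      exact Set.mem_iUnion.2 ⟨⟨⟨V, hV⟩, hVU⟩, hxV⟩)
  refine ⟨s.map (Function.Embedding.subtype _), fun W hW => ?_, fun x hx => ?_⟩
  · obtain ⟨W', -, rfl⟩ := Finset.mem_map.1 hW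
    exact W'.2
  · obtain ⟨W, hW, hxW⟩ := Set.mem_iUnion₂.1 (hs hx)
    exact ⟨W.1, Finset.mem_map.2 ⟨W, hW, rfl⟩, hxW⟩

/-- Transition maps commute with the action of the sections of the base. -/
lemma trans_appLE_smul {X X' X'' : Scheme.{u}} (p : X'' ⟶ X') (g : X' ⟶ X) (M : X.Modules) {h : X'' ⟶ X}
    (w : p ≫ g = h) {W : X.Opens} {W' : X'.Opens} {W'' : X''.Opens} (e : W' ≤ g ⁻¹ᵁ W)
    (e' : W'' ≤ p ⁻¹ᵁ W') (r : Γ(X, W)) (a : Γ((Scheme.Modules.pullback g).obj M, W')) :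
    trans p g M w e' (g.appLE W W' e r • a) =
      h.appLE W W'' (e'.trans ((p.preimage_mono e).trans (by subst w; exact le_rfl))) r •
        trans p g M w e' a := by
  subst w
  rw [trans_smul, ← CommRingCat.comp_apply, Scheme.Hom.appLE_comp_appLE]

/-- Equal transitions stay equal further along. -/
lemma trans_eq_mono {X X' X'' X''' : Scheme.{u}} (r : X''' ⟶ X'') (p : X'' ⟶ X') (g : X' ⟶ X)
    (M : X.Modules) [Coh.IsQCoh M] {h : X'' ⟶ X} (w : p ≫ g = h) {p' : X''' ⟶ X'} (wp : r ≫ p = p')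
    {h' : X''' ⟶ X} (w' : r ≫ h = h') (w'' : p' ≫ g = h')
    {W : X.Opens} (hW : IsAffineOpen W) {W' : X'.Opens} (hW' : IsAffineOpen W') (e : W' ≤ g ⁻¹ᵁ W)
    {W'' : X''.Opens} (e' : W'' ≤ p ⁻¹ᵁ W') {W''' : X'''.Opens} (e'' : W''' ≤ r ⁻¹ᵁ W'')
    (e₃ : W''' ≤ p' ⁻¹ᵁ W') {a b : Γ((Scheme.Modules.pullback g).obj M, W')}
    (eq : trans p g M w e' a = trans p g M w e' b) :
    trans p' g M w'' e₃ a = trans p' g M w'' e₃ b := by
  subst wp
  have e1 := congrArg (trans r h M w' e'') eq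
  rwa [trans_trans r p g M w w' w'' hW hW' e, trans_trans r p g M w w' w'' hW hW' e] at e1

/-- The action on a pushforward, through `appLE`. -/
lemma push_smul {X X' : Scheme.{u}} (g : X' ⟶ X) (M' : X'.Modules) (W : X.Opens) (r : Γ(X, W))
    (b : Γ(M', g ⁻¹ᵁ W)) :
    (r • (show Γ((Scheme.Modules.pushforward g).obj M', W) from b) :
        Γ((Scheme.Modules.pushforward g).obj M', W)) =
      (show Γ((Scheme.Modules.pushforward g).obj M', W) from
        (g.appLE W (g ⁻¹ᵁ W) le_rfl r • b)) := by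
  rw [Scheme.Hom.appLE_eq_app]
  rfl

section

variable {I : Type u} [SmallCategory I] [IsCofiltered I] {D : I ⥤ Scheme.{u}} {c : Cone D}
  (hc : IsLimit c) [∀ (i j : I) (f : i ⟶ j), IsAffineHom (D.map f)] {i₀ : I}
  {F G : (D.obj i₀).Modules} [Coh.IsQCoh F] [Coh.IsQCoh G]
  (h : (Scheme.Modules.pullback (c.π.app i₀)).obj F ⟶ (Scheme.Modules.pullback (c.π.app i₀)).obj G)

omit [Coh.IsQCoh F] in
/-- Transition to the limit through a further stage. -/
theorem trans_stage {W : (D.obj i₀).Opens} (hW : IsAffineOpen W) {k k' : I} (α : k ⟶ i₀) (β : k' ⟶ k)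
    (a : Γ((Scheme.Modules.pullback (D.map α)).obj G, D.map α ⁻¹ᵁ W)) :
    trans (c.π.app k') (D.map (β ≫ α)) G (c.w (β ≫ α)) (le_stage (β ≫ α) W)
        (trans (D.map β) (D.map α) G (D.map_comp β α).symm (le_step β α W) a) =
      trans (c.π.app k) (D.map α) G (c.w α) (le_stage α W) a := by
  rw [trans_trans _ _ _ _ _ _ (by rw [c.w, c.w]) hW (hW.preimage _) le_rfl]
  simp only [c.w]

include hc in
omit [Coh.IsQCoh F] in
/-- Finitely many equations that hold on the limit hold at a stage. -/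
theorem exists_stage_eq {W : (D.obj i₀).Opens} (hW : IsAffineOpen W) {k : I} (α : k ⟶ i₀) {ι : Type*}
    (S : Finset ι) (a b : ι → Γ((Scheme.Modules.pullback (D.map α)).obj G, D.map α ⁻¹ᵁ W))
    (hab : ∀ i ∈ S, trans (c.π.app k) (D.map α) G (c.w α) (le_stage α W) (a i) =
      trans (c.π.app k) (D.map α) G (c.w α) (le_stage α W) (b i)) :
    ∃ (k' : I) (β : k' ⟶ k), ∀ i ∈ S,
      trans (D.map β) (D.map α) G (D.map_comp β α).symm (le_step β α W) (a i) =
        trans (D.map β) (D.map α) G (D.map_comp β α).symm (le_step β α W) (b i) := by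
  refine exists_common (j := k) S (fun i k' β =>
    trans (D.map β) (D.map α) G (D.map_comp β α).symm (le_step β α W) (a i) =
      trans (D.map β) (D.map α) G (D.map_comp β α).symm (le_step β α W) (b i)) ?_ ?_
  · intro i k₁ k₂ β γ hi
    exact trans_eq_mono (D.map γ) (D.map β) (D.map α) G (D.map_comp β α).symm (D.map_comp γ β).symm
      (h' := D.map ((γ ≫ β) ≫ α)) (by rw [← D.map_comp, ← Category.assoc]) (D.map_comp (γ ≫ β) α).symm
      hW (hW.preimage _) le_rfl (le_step β α W)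
      (by rw [← Scheme.Hom.comp_preimage, ← D.map_comp, Category.assoc]) (le_step (γ ≫ β) α W) hi
  · intro i hi
    obtain ⟨k', β, hβ⟩ := exists_trans_eq_zero hc G hW α (a i - b i)
      (by rw [trans_sub, hab i hi, sub_self])
    rw [trans_sub, sub_eq_zero] at hβ
    exact ⟨k', β, hβ⟩

/-- A stage over which `h` is given by a linear map on the sections over `W`. -/
def Good (W : (D.obj i₀).Opens) (k : I) (α : k ⟶ i₀) : Prop :=
  ∃ l : Γ(F, W) →+ Γ((Scheme.Modules.pullback (D.map α)).obj G, D.map α ⁻¹ᵁ W),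
    (∀ (r : Γ(D.obj i₀, W)) (s : Γ(F, W)),
      l (r • s) = (D.map α).appLE W _ le_rfl r • l s) ∧
    ∀ s : Γ(F, W), trans (c.π.app k) (D.map α) G (c.w α) (le_stage α W) (l s) =
      h.app (c.π.app i₀ ⁻¹ᵁ W) (res' (c.π.app i₀) F le_rfl s)

omit [Coh.IsQCoh F] in
lemma Good.mono {W : (D.obj i₀).Opens} (hW : IsAffineOpen W) {k k' : I} {α : k ⟶ i₀} (β : k' ⟶ k)
    (hg : Good h W k α) : Good h W k' (β ≫ α) := by
  obtain ⟨l, hl, hlh⟩ := hg
  refine ⟨(AddMonoidHom.mk' (trans (D.map β) (D.map α) G (D.map_comp β α).symm (le_step β α W))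
    (trans_add _ _ _ _ _)).comp l, fun r s => ?_, fun s => ?_⟩
  · show trans _ _ _ _ _ (l (r • s)) = _ • trans _ _ _ _ _ (l s)
    rw [hl, trans_appLE_smul _ _ _ _ le_rfl]
  · show trans _ _ _ _ _ (trans _ _ _ _ _ (l s)) = _
    rw [trans_trans _ _ _ _ _ _ (by rw [c.w, c.w]) hW (hW.preimage _) le_rfl]
    simp only [c.w]
    exact hlh s

/-- Sections over the preimage, as a module over the sections of the base. -/
@[reducible] noncomputable def secModule {X X' : Scheme.{u}} (g : X' ⟶ X) (M' : X'.Modules)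
    {W : X.Opens} {W' : X'.Opens} (e : W' ≤ g ⁻¹ᵁ W) : Module Γ(X, W) Γ(M', W') :=
  Module.compHom _ (g.appLE W W' e).hom

include hc in
theorem exists_good (hF : CohB1.IsFP F) {W : (D.obj i₀).Opens} (hW : IsAffineOpen W) :
    ∃ (k : I) (α : k ⟶ i₀), Good h W k α := by
  classical
  haveI := M1.finitePresentation_sections hF hW
  obtain ⟨n, K, e, hK⟩ := Module.FinitePresentation.exists_fin Γ(D.obj i₀, W) Γ(F, W)
  letI := secModule (c.π.app i₀) ((Scheme.Modules.pullback (c.π.app i₀)).obj G) (W := W) (le_refl _)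
  let q : (Fin n → Γ(D.obj i₀, W)) →ₗ[Γ(D.obj i₀, W)] Γ(F, W) := e.symm.toLinearMap ∘ₗ K.mkQ
  let tgt : Γ(F, W) →ₗ[Γ(D.obj i₀, W)]
      Γ((Scheme.Modules.pullback (c.π.app i₀)).obj G, c.π.app i₀ ⁻¹ᵁ W) :=
    { toFun := fun s => h.app _ (res' (c.π.app i₀) F le_rfl s)
      map_add' := fun s t => by rw [res'_add, map_add]
      map_smul' := fun r s => by rw [res'_smul, h.app_smul]; rfl }
  obtain ⟨k, α, hk⟩ := exists_common (j := i₀) (Finset.univ : Finset (Fin n))
    (fun l k α => ∃ a : Γ((Scheme.Modules.pullback (D.map α)).obj G, D.map α ⁻¹ᵁ W),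
      trans (c.π.app k) (D.map α) G (c.w α) (le_stage α W) a = tgt (q (Pi.single l 1)))
    (fun l k k' α β ⟨a, ha⟩ => ⟨trans (D.map β) (D.map α) G (D.map_comp β α).symm (le_step β α W) a, by
      rw [trans_stage hW]
      exact ha⟩)
    (fun l _ => exists_trans_eq hc G hW _)
  choose a ha using fun l => hk l (Finset.mem_univ l)
  letI := secModule (D.map α) ((Scheme.Modules.pullback (D.map α)).obj G) (W := W) (le_refl _)
  let T₀ : Γ((Scheme.Modules.pullback (D.map α)).obj G, D.map α ⁻¹ᵁ W) →ₗ[Γ(D.obj i₀, W)]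
      Γ((Scheme.Modules.pullback (c.π.app i₀)).obj G, c.π.app i₀ ⁻¹ᵁ W) :=
    { toFun := trans (c.π.app k) (D.map α) G (c.w α) (le_stage α W)
      map_add' := trans_add _ _ _ _ _
      map_smul' := fun r b => trans_appLE_smul _ _ _ _ le_rfl _ r b }
  let pt := Fintype.linearCombination Γ(D.obj i₀, W) a
  have hpt : T₀ ∘ₗ pt = tgt ∘ₗ q := by
    refine (Pi.basisFun Γ(D.obj i₀, W) (Fin n)).ext fun l => ?_
    rw [Pi.basisFun_apply, LinearMap.comp_apply, LinearMap.comp_apply,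
      Fintype.linearCombination_apply_single, one_smul]
    exact ha l
  obtain ⟨S, hS⟩ := hK
  have hS0 : ∀ x ∈ S, q x = 0 := fun x hx => by
    show e.symm (K.mkQ x) = 0
    rw [show K.mkQ x = 0 from (Submodule.Quotient.mk_eq_zero _).2 (hS ▸ Submodule.subset_span hx),
      map_zero]
  obtain ⟨k', β, hk'⟩ := exists_stage_eq hc hW α S (fun x => pt x) (fun _ => 0) fun x hx => by
    rw [trans_zero]
    refine (LinearMap.congr_fun hpt x).trans ?_
    rw [LinearMap.comp_apply, hS0 x hx, map_zero]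
  letI := secModule (D.map (β ≫ α)) ((Scheme.Modules.pullback (D.map (β ≫ α))).obj G) (W := W) (le_refl _)
  let T : Γ((Scheme.Modules.pullback (D.map α)).obj G, D.map α ⁻¹ᵁ W) →ₗ[Γ(D.obj i₀, W)]
      Γ((Scheme.Modules.pullback (D.map (β ≫ α))).obj G, D.map (β ≫ α) ⁻¹ᵁ W) :=
    { toFun := trans (D.map β) (D.map α) G (D.map_comp β α).symm (le_step β α W)
      map_add' := trans_add _ _ _ _ _
      map_smul' := fun r b => trans_appLE_smul _ _ _ _ le_rfl _ r b }
  have hker : K ≤ LinearMap.ker (T ∘ₗ pt) := by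
    rw [← hS, Submodule.span_le]
    exact fun x hx => (hk' x hx).trans (trans_zero _ _ _ _ _)
  let L := K.liftQ (T ∘ₗ pt) hker ∘ₗ e.toLinearMap
  refine ⟨k', β ≫ α, L.toAddMonoidHom, fun r s => L.map_smul r s, fun s => ?_⟩
  obtain ⟨x, hx⟩ := K.mkQ_surjective (e s)
  have hLs : L.toAddMonoidHom s = T (pt x) := by
    show K.liftQ _ hker (e s) = _
    rw [← hx]
    rfl
  have hqx : q x = s := by
    show e.symm (K.mkQ x) = s
    rw [hx, e.symm_apply_apply]
  rw [hLs]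
  refine (trans_stage (c := c) hW α β (pt x)).trans ?_
  refine (LinearMap.congr_fun hpt x).trans ?_
  rw [LinearMap.comp_apply, hqx]
  rfl

include hc in
/-- Compatible local linear maps at a common stage. -/
theorem exists_compat_stage (hF : CohB1.IsFP F) (Ps : Finset (D.obj i₀).affineOpens) :
    ∃ (j : I) (φ : j ⟶ i₀)
      (l : ∀ W : (D.obj i₀).affineOpens, Γ(F, (W : (D.obj i₀).Opens)) →+
        Γ((Scheme.Modules.pullback (D.map φ)).obj G, D.map φ ⁻¹ᵁ (W : (D.obj i₀).Opens))),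
      (∀ W ∈ Ps, ∀ (r : Γ(D.obj i₀, (W : (D.obj i₀).Opens))) (s : Γ(F, (W : (D.obj i₀).Opens))),
        l W (r • s) = (D.map φ).appLE _ _ le_rfl r • l W s) ∧
      (∀ W ∈ Ps, ∀ s : Γ(F, (W : (D.obj i₀).Opens)),
        trans (c.π.app j) (D.map φ) G (c.w φ) (le_stage φ W.1) (l W s) =
          h.app _ (res' (c.π.app i₀) F (W := W.1) le_rfl s)) ∧
      ∀ V ∈ Ps, ∀ W ∈ Ps, ∀ (hWV : (W : (D.obj i₀).Opens) ≤ V.1) (t : Γ(F, (V : (D.obj i₀).Opens))),
        M1.mres _ ((D.map φ).preimage_mono hWV) (l V t) = l W (M1.mres F hWV t) := by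
  classical
  obtain ⟨k, α, hk⟩ := exists_common (j := i₀) Ps
    (fun W k α => Good h W.1 k α) (fun W _ _ _ β hg => Good.mono h W.2 β hg)
    (fun W _ => exists_good hc h hF W.2)
  choose! l hl hlh using hk
  have hfin : ∀ V : (D.obj i₀).affineOpens, ∃ T : Finset Γ(F, (V : (D.obj i₀).Opens)),
      Submodule.span Γ(D.obj i₀, (V : (D.obj i₀).Opens))
        (↑T : Set Γ(F, (V : (D.obj i₀).Opens))) = ⊤ := fun V =>
    (M1.finite_sections ‹Coh.IsQCoh F› (M1.isFP_isFT hF) V.2).fg_top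
  choose T hT using hfin
  obtain ⟨k', β, hk'⟩ := exists_common (j := k) (Ps ×ˢ Ps)
    (fun q k' β => ∀ (hW : (q.2 : (D.obj i₀).Opens) ≤ q.1) (t : Γ(F, (q.1 : (D.obj i₀).Opens))), t ∈ T q.1 →
        trans (D.map β) (D.map α) G (D.map_comp β α).symm (le_step β α q.2.1)
            (M1.mres _ ((D.map α).preimage_mono hW) (l q.1 t)) =
          trans (D.map β) (D.map α) G (D.map_comp β α).symm (le_step β α q.2.1)
            (l q.2 (M1.mres F hW t)))
    (fun q k' k'' β γ hq hW t ht => trans_eq_mono (D.map γ) (D.map β) (D.map α) G (D.map_comp β α).symm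
      (D.map_comp γ β).symm (h' := D.map ((γ ≫ β) ≫ α)) (by rw [← D.map_comp, ← Category.assoc])
      (D.map_comp (γ ≫ β) α).symm q.2.2 (q.2.2.preimage _) le_rfl (le_step β α q.2.1)
      (by rw [← Scheme.Hom.comp_preimage, ← D.map_comp, Category.assoc])
      (le_step (γ ≫ β) α q.2.1) (hq hW t ht))
    (fun ⟨Va, W⟩ hp => by
      obtain ⟨hVa, hWk⟩ := Finset.mem_product.1 hp
      by_cases hWle : (W : (D.obj i₀).Opens) ≤ Va.1
      swap
      · exact ⟨k, 𝟙 k, fun hW => absurd hW hWle⟩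
      obtain ⟨k', β, hβ⟩ := exists_stage_eq hc W.2 α (T Va)
        (fun t => M1.mres _ ((D.map α).preimage_mono hWle) (l Va t))
        (fun t => l W (M1.mres F hWle t)) fun t _ => by
          rw [hlh W hWk, res'_mres, trans_mres,
            ← mres_trans _ _ _ _ (le_stage α Va.1) ((c.π.app i₀).preimage_mono hWle),
            hlh Va hVa, ← M1.app_mres, mres_res']
      exact ⟨k', β, fun _ => hβ⟩)
  let tr : ∀ W : (D.obj i₀).affineOpens,
      Γ((Scheme.Modules.pullback (D.map α)).obj G, D.map α ⁻¹ᵁ W.1) →+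
        Γ((Scheme.Modules.pullback (D.map (β ≫ α))).obj G, D.map (β ≫ α) ⁻¹ᵁ W.1) := fun W =>
    AddMonoidHom.mk' (trans (D.map β) (D.map α) G (D.map_comp β α).symm (le_step β α W.1))
      (trans_add _ _ _ _ _)
  refine ⟨k', β ≫ α, fun W => (tr W).comp (l W), fun W hW r s => ?_, fun W hW s => ?_,
    fun V hV W hW hWV t => ?_⟩
  · show trans _ _ _ _ _ (l W (r • s)) = _
    rw [hl W hW]
    exact trans_appLE_smul _ _ _ _ le_rfl _ r _
  · exact (trans_stage (c := c) W.2 α β (l W s)).trans (hlh W hW s)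
  · have ht : t ∈ Submodule.span Γ(D.obj i₀, (V : (D.obj i₀).Opens))
        (↑(T V) : Set Γ(F, (V : (D.obj i₀).Opens))) := by rw [hT]; trivial
    show M1.mres _ _ (trans _ _ _ _ _ (l V t)) = trans _ _ _ _ _ (l W _)
    rw [mres_trans, show trans (D.map β) (D.map α) G (D.map_comp β α).symm
        (((D.map (β ≫ α)).preimage_mono hWV).trans (le_step β α V.1)) (l V t) =
      trans (D.map β) (D.map α) G (D.map_comp β α).symm (le_step β α W.1)
        (M1.mres _ ((D.map α).preimage_mono hWV) (l V t)) from (trans_mres _ _ _ _ _ _ _).symm]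
    induction ht using Submodule.span_induction with
    | mem y hy => exact hk' (V, W) (Finset.mem_product.2 ⟨hV, hW⟩) hWV y hy
    | zero => simp only [map_zero]
    | add y z _ _ hy hz => simp only [map_add, trans_add, hy, hz]
    | smul r y _ hy =>
      rw [hl V hV, M1.mres_smul, M1.mres_smul, hl W hW, trans_smul, hy, trans_smul, ← CommRingCat.comp_apply,
        ← CommRingCat.comp_apply]
      congr 1
      rw [← CommRingCat.comp_apply]
      simp only [M1.ores, Scheme.Hom.appLE_map_assoc, Category.assoc]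
      rw [← CommRingCat.comp_apply, ← Category.assoc _ _ ((D.map β).appLE _ _ _), Scheme.Hom.map_appLE]

end

/-- Compatible local linear maps glue to a homomorphism out of a pullback. -/
theorem exists_hom_of_sections {X X' : Scheme.{u}} (g : X' ⟶ X) {F : X.Modules} [Coh.IsQCoh F]
    (M' : X'.Modules) (Ps Vs : Finset X.affineOpens) (hVs : ∀ x : X, ∃ V ∈ Vs, x ∈ (V : X.Opens))
    (hsub : Vs ⊆ Ps)
    (hPs : ∀ V ∈ Vs, ∀ V' ∈ Vs, ∀ x ∈ (V : X.Opens) ⊓ V'.1,
      ∃ W ∈ Ps, x ∈ (W : X.Opens) ∧ (W : X.Opens) ≤ V.1 ∧ (W : X.Opens) ≤ V'.1)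
    (l : ∀ W : X.affineOpens, Γ(F, (W : X.Opens)) →+ Γ(M', g ⁻¹ᵁ (W : X.Opens)))
    (hl : ∀ W ∈ Ps, ∀ (r : Γ(X, (W : X.Opens))) (s : Γ(F, (W : X.Opens))),
      l W (r • s) = g.appLE _ _ le_rfl r • l W s)
    (hc' : ∀ V ∈ Ps, ∀ W ∈ Ps, ∀ (hWV : (W : X.Opens) ≤ V.1) (t : Γ(F, (V : X.Opens))),
      M1.mres _ (g.preimage_mono hWV) (l V t) = l W (M1.mres F hWV t)) :
    ∃ hj : (Scheme.Modules.pullback g).obj F ⟶ M', ∀ V ∈ Vs, ∀ s : Γ(F, (V : X.Opens)),
      hj.app (g ⁻¹ᵁ (V : X.Opens)) (res' g F le_rfl s) = l V s := by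
  classical
  let N : X.Modules := (Scheme.Modules.pushforward g).obj M'
  have hloc : ∀ W ∈ Ps, ∃ ψ : LocalHom F N (W : X.Opens), ∀ s, ψ.app _ le_rfl s = l W s := fun W hW =>
    exists_localHom W.2 (N := N) (l W) fun r s => by
      refine (hl W hW r s).trans ?_
      rw [Scheme.Hom.appLE_eq_app]
      rfl
  haveI : ∀ W : X.Opens, Nonempty (LocalHom F N W) := fun W =>
    ⟨⟨fun _ _ => 0, fun _ _ r s => by simp, fun _ _ _ _ s => by simp⟩⟩
  choose! ψ hψ using hloc
  obtain ⟨Φ, hΦ⟩ := exists_hom_of_localHom (ι := Vs) (V := fun a => (a.1 : X.Opens))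
    (top_le_iff.1 fun x _ => by
      obtain ⟨W, hW, hxW⟩ := hVs x
      exact TopologicalSpace.Opens.mem_iSup.2 ⟨⟨W, hW⟩, hxW⟩)
    (fun a => ψ a.1) fun a b O ha hb s => by
      refine M1.section_ext _ _ fun x hx => ?_
      obtain ⟨W, hW, hxW, hWa, hWb⟩ := hPs a.1 a.2 b.1 b.2 x ⟨ha hx, hb hx⟩
      have key : ∀ (V : X.affineOpens) (hV : V ∈ Ps) (hOV : O ≤ V.1) (hWV : (W : X.Opens) ≤ V.1),
          N.presheaf.germ O x hx ((ψ V).app O hOV s) =
            N.presheaf.germ (O ⊓ W.1) x ⟨hx, hxW⟩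
              ((ψ W).app (O ⊓ W.1) inf_le_right (M1.mres F inf_le_left s)) := fun V hV hOV hWV => by
        rw [← LocalHom.ext_of_affine (V := V.1) (W := W.1) V.2 hWV (ψ V) (ψ W) hWV le_rfl
            (fun t => by
              rw [(ψ V).app_mres V.1 W.1 le_rfl hWV, hψ V hV, hψ W hW]
              exact hc' V hV W hW hWV t)
            inf_le_right (M1.mres F inf_le_left s), (ψ V).app_mres O _ hOV inf_le_left,
          M1.germ_mres]
      rw [key a.1 (hsub a.2) ha hWa, key b.1 (hsub b.2) hb hWb]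
  refine ⟨((Scheme.Modules.pullbackPushforwardAdjunction g).homEquiv _ _).symm Φ, fun V hV s => ?_⟩
  have e := ((Scheme.Modules.pullbackPushforwardAdjunction g).homEquiv F M').apply_symm_apply Φ
  rw [Adjunction.homEquiv_unit] at e
  have e' := congrArg (fun m => m.app V.1 s) e
  rw [show res' g F (W := V.1) (le_refl (g ⁻¹ᵁ V.1)) s = M2.pullSec g F s from M1.mres_id _ _ _]
  exact (e'.trans (hΦ ⟨V, hV⟩ V.1 le_rfl s)).trans (hψ V (hsub hV) s)

variable {I : Type u} [SmallCategory I] [IsCofiltered I] {D : I ⥤ Scheme.{u}} {c : Cone D}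
  (hc : IsLimit c) [∀ (i j : I) (f : i ⟶ j), IsAffineHom (D.map f)] {i₀ : I}
  {F G : (D.obj i₀).Modules} [Coh.IsQCoh F] [Coh.IsQCoh G]
  (h : (Scheme.Modules.pullback (c.π.app i₀)).obj F ⟶ (Scheme.Modules.pullback (c.π.app i₀)).obj G)

set_option maxHeartbeats 400000 in
include hc in
/-- A homomorphism on the limit out of a module of finite presentation comes from a stage. -/
theorem exists_hom_descend [CompactSpace (D.obj i₀)] [QuasiSeparatedSpace (D.obj i₀)]
    (hF : CohB1.IsFP F) :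
    ∃ (j : I) (φ : j ⟶ i₀)
      (hj : (Scheme.Modules.pullback (D.map φ)).obj F ⟶ (Scheme.Modules.pullback (D.map φ)).obj G),
      ((cmp (c.π.app j) (D.map φ) (c.w φ)).app F).inv ≫
        (Scheme.Modules.pullback (c.π.app j)).map hj ≫
          ((cmp (c.π.app j) (D.map φ) (c.w φ)).app G).hom = h := by
  classical
  obtain ⟨Vs, -, hVs⟩ := exists_finset_affine_cover (⊤ : (D.obj i₀).Opens) isCompact_univ
  have hW2 : ∀ q : (D.obj i₀).affineOpens × (D.obj i₀).affineOpens,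
      ∃ s : Finset (D.obj i₀).affineOpens,
      (∀ W ∈ s, (W : (D.obj i₀).Opens) ≤ (q.1 : (D.obj i₀).Opens) ⊓ q.2) ∧
      ∀ x ∈ (q.1 : (D.obj i₀).Opens) ⊓ q.2, ∃ W ∈ s, x ∈ (W : (D.obj i₀).Opens) := fun q =>
    exists_finset_affine_cover _ (QuasiSeparatedSpace.inter_isCompact (q.1.1 : Set (D.obj i₀))
      (q.2.1 : Set (D.obj i₀)) q.1.1.isOpen q.1.2.isCompact q.2.1.isOpen q.2.2.isCompact)
  choose Ws hWs hWcov using hW2
  obtain ⟨j, φ, l, hl, hlh, hcomp⟩ := exists_compat_stage hc h hF (Vs ∪ (Vs ×ˢ Vs).biUnion Ws)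
  obtain ⟨hj, hhj⟩ := exists_hom_of_sections (D.map φ) ((Scheme.Modules.pullback (D.map φ)).obj G) _ Vs
    (fun x => hVs x trivial) Finset.subset_union_left
    (fun V hV V' hV' x hx => by
      obtain ⟨W, hW, hxW⟩ := hWcov (V, V') x hx
      exact ⟨W, Finset.mem_union_right _ (Finset.mem_biUnion.2 ⟨(V, V'), Finset.mem_product.2 ⟨hV, hV'⟩, hW⟩),
        hxW, (hWs _ W hW).trans inf_le_left, (hWs _ W hW).trans inf_le_right⟩)
    l hl hcomp
  refine ⟨j, φ, hj, pullback_hom_ext (c.π.app i₀) F _ _ fun x => ?_⟩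
  obtain ⟨V, hV, hxV⟩ := hVs x trivial
  refine ⟨V.1, Set.univ, hxV, V.2, Submodule.span_univ, fun s _ => ?_⟩
  have hinv : ((cmp (c.π.app j) (D.map φ) (c.w φ)).app F).inv.app (c.π.app i₀ ⁻¹ᵁ V.1)
      (res' (c.π.app i₀) F le_rfl s) =
      res' (c.π.app j) _ (le_stage φ V.1) (res' (D.map φ) F le_rfl s) := by
    have e := cmp_res' (c.π.app j) (D.map φ) F (c.w φ) (le_refl (D.map φ ⁻¹ᵁ V.1)) (le_stage φ V.1) s
    rw [← e]
    exact congrArg (fun m : (Scheme.Modules.pullback (D.map φ) ⋙ Scheme.Modules.pullback (c.π.app j)).obj F ⟶ _ =>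
      m.app (c.π.app i₀ ⁻¹ᵁ V.1) (res' (c.π.app j) _ (le_stage φ V.1) (res' (D.map φ) F le_rfl s)))
      (((cmp (c.π.app j) (D.map φ) (c.w φ)).app F).hom_inv_id)
  have h2 := (map_res' (c.π.app j) ((Scheme.Modules.pullback (D.map φ)).obj F) (le_stage φ V.1) hj
    (res' (D.map φ) F le_rfl s)).trans
    (congrArg (res' (c.π.app j) ((Scheme.Modules.pullback (D.map φ)).obj G) (le_stage φ V.1)) (hhj V hV s))
  refine Eq.trans ?_ (hlh V (Finset.mem_union_left _ hV) s)
  refine Eq.trans ?_ (congrArg (((cmp (c.π.app j) (D.map φ) (c.w φ)).hom.app G).app (c.π.app i₀ ⁻¹ᵁ V.1)) h2)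
  rw [← hinv]
  rfl

end Groth.Agent.ModLimH13
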