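import Groth.Agent.Lib.ModLimH13.Hom2
import Groth.Agent.Lib.ModM1.QCAlgGen

/-!
# Descent of finitely presented quotients along a limit of schemes
-/

universe u

set_option linter.style.haveILetI false
set_option backward.isDefEq.respectTransparency false

open AlgebraicGeometry CategoryTheory Limits Groth.Agent.M1

namespace Groth.Agent.ModLimH13

/-- A homomorphism out of a quasi-coherent module vanishes when it kills generators on an affine
cover. -/
theorem hom_eq_zero_of_generators {X : Scheme.{u}} {K C : X.Modules} [Coh.IsQCoh K] (ψ : K ⟶ C)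
    (h : ∀ x : X, ∃ (V : X.Opens) (T : Set Γ(K, V)), x ∈ V ∧ IsAffineOpen V ∧
      Submodule.span Γ(X, V) T = ⊤ ∧ ∀ t ∈ T, ψ.app V t = 0) : ψ = 0 := by
  ext O s
  refine M1.section_ext _ _ fun x hx => ?_
  obtain ⟨V, T, hxV, hV, hT, h0⟩ := h x
  obtain ⟨r, m, hr, hm⟩ := M1.exists_germ_smul_eq K hV hxV (K.presheaf.germ O x hx s)
  have hgen : ∀ a ∈ Submodule.span Γ(X, V) T, ψ.app V a = 0 := fun a ha => by
    induction ha using Submodule.span_induction with
    | mem t ht => exact h0 t ht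
    | zero => exact map_zero _
    | add a b _ _ ha hb => simp [ha, hb]
    | smul c a _ ha => simp [ψ.app_smul, ha]
  have hm0 : ψ.app V m = 0 := hgen m (by rw [hT]; trivial)
  have h1 := congrArg ((stalkAb x).map ψ) hm
  rw [show (stalkAb x).map ψ (X.presheaf.germ V x hxV r • (K.presheaf.germ O x hx s : K.presheaf.stalk x)) =
      X.presheaf.germ V x hxV r • (C.presheaf.germ O x hx (ψ.app O s) : C.presheaf.stalk x) from ?_,
    germ_naturality, hm0, map_zero] at h1
  · show C.presheaf.germ O x hx (ψ.app O s) = C.presheaf.germ O x hx 0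
    rw [map_zero]
    exact hr.smul_eq_zero.1 h1
  · obtain ⟨V', hV', hx', -⟩ : ∃ V' : X.Opens, V' ≤ O ⊓ V ∧ x ∈ V' ∧ True :=
      ⟨O ⊓ V, le_rfl, ⟨hx, hxV⟩, trivial⟩
    have e1 : (K.presheaf.germ O x hx s : K.presheaf.stalk x) =
        K.presheaf.germ V' x hx' (mres K (hV'.trans inf_le_left) s) := (germ_mres K (hV'.trans inf_le_left) hx' s).symm
    have e2 : X.presheaf.germ V x hxV r =
        X.presheaf.germ V' x hx' (X.presheaf.map (homOfLE (hV'.trans inf_le_right)).op r) :=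
      (TopCat.Presheaf.germ_res_apply _ _ x hx' r).symm
    rw [e1, e2, ← germ_smul, germ_naturality, ψ.app_smul, germ_smul, app_mres, germ_mres]

/-- The inverse comparison undoes a transition. -/
theorem cmp_inv_trans {X X' X'' : Scheme.{u}} (p : X'' ⟶ X') (g : X' ⟶ X) (M : X.Modules) {h : X'' ⟶ X}
    (w : p ≫ g = h) {W' : X'.Opens} {W'' : X''.Opens} (e' : W'' ≤ p ⁻¹ᵁ W')
    (a : Γ((Scheme.Modules.pullback g).obj M, W')) :
    ((cmp p g w).app M).inv.app W'' (trans p g M w e' a) = res' p _ e' a :=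
  congrArg (fun m : (Scheme.Modules.pullback g ⋙ Scheme.Modules.pullback p).obj M ⟶ _ =>
    m.app W'' (res' p _ e' a)) ((cmp p g w).app M).hom_inv_id

/-- The cokernel of a map from a module of finite type to one of finite presentation is of finite
presentation. -/
theorem isFP_cokernel {X : Scheme.{u}} {K P : X.Modules} (hK : Coh.IsQCoh K) (hK' : CohB1.IsFT K)
    (hP : CohB1.IsFP P) (f : K ⟶ P) : CohB1.IsFP (cokernel f) := by
  have hPq := isFP_isQCoh hP
  have hCq := isQCoh_cokernel hK hPq f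
  refine isFP_of_finitePresentation_sections hCq fun U hU => ?_
  haveI := finitePresentation_sections hP hU
  haveI := finite_sections hK hK' hU
  let q : Γ(P, U) →ₗ[Γ(X, U)] Γ(cokernel f, U) :=
    { toFun := (cokernel.π f).app U
      map_add' := map_add _
      map_smul' := fun r s => (cokernel.π f).app_smul r s }
  let g : Γ(K, U) →ₗ[Γ(X, U)] Γ(P, U) :=
    { toFun := f.app U
      map_add' := map_add _
      map_smul' := fun r s => f.app_smul r s }
  refine Module.finitePresentation_of_surjective q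
    (app_surjective_affine_of_isQCoh hPq hCq (cokernel.π f) hU) ?_
  have hker : LinearMap.ker q = LinearMap.range g := by
    refine le_antisymm (fun b hb => ?_) ?_
    · obtain ⟨b', hb'⟩ := (Sub.mem_ker (cokernel.π f) U b).2 hb
      haveI : Epi (kernel.lift (cokernel.π f) f (cokernel.condition f)) := Sub.epi_toIm f
      obtain ⟨a, ha⟩ := app_surjective_affine_of_isQCoh hK (isQCoh_kernel hPq hCq _)
        (kernel.lift (cokernel.π f) f (cokernel.condition f)) hU b'
      refine ⟨a, ?_⟩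
      show f.app U a = b
      rw [← hb', ← ha]
      exact (congrArg (fun φ => φ.app U a) (kernel.lift_ι (cokernel.π f) f (cokernel.condition f))).symm
    · rintro _ ⟨a, rfl⟩
      exact (comp_app_apply f (cokernel.π f) U a).symm.trans
        (congrArg (fun φ : K ⟶ cokernel f => φ.app U a) (cokernel.condition f))
  rw [hker]
  exact Module.Finite.fg_top (R := Γ(X, U)) (M := Γ(K, U)) |>.map g |> fun h => by
    rwa [Submodule.map_top] at h

/-- A submodule of finite type through finitely many sections. -/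
theorem exists_sub_through {X : Scheme.{u}} [CompactSpace X] [QuasiSeparatedSpace X] {F : X.Modules}
    (hF : Coh.IsQCoh F) {ι : Type*} (S : Finset ι) (U : ι → X.affineOpens)
    (s : ∀ i, Γ(F, (U i : X.Opens))) :
    ∃ q : Sub F, Coh.IsQCoh q.P ∧ CohB1.IsFT q.P ∧ ∀ i ∈ S, q.mem (U i).1 (s i) := by
  classical
  induction S using Finset.induction with
  | empty =>
    obtain ⟨q, hq, hq'⟩ := Sub.exists_zero hF
    exact ⟨q, hq, hq', fun i hi => absurd hi (Finset.notMem_empty i)⟩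
  | insert i S hi ih =>
    obtain ⟨q, hq, hq', hm⟩ := ih
    obtain ⟨p, hp, hp', hmp⟩ := Sub.exists_through_section hF (U i) (s i)
    obtain ⟨r, hr, hr', hpr, hqr⟩ := Sub.exists_sup hF hp hp' hq hq'
    refine ⟨r, hr, hr', fun k hk => ?_⟩
    rcases Finset.mem_insert.1 hk with rfl | hk
    · exact hpr _ _ hmp
    · exact hqr _ _ (hm k hk)

variable {I : Type u} [SmallCategory I] [IsCofiltered I] {D : I ⥤ Scheme.{u}} {c : Cone D}
  (hc : IsLimit c) [∀ (i j : I) (f : i ⟶ j), IsAffineHom (D.map f)] {i₀ : I}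
  [CompactSpace (D.obj i₀)] [QuasiSeparatedSpace (D.obj i₀)]

set_option maxHeartbeats 800000 in
include hc in
/-- Quotients of finite presentation come from a stage. -/
theorem exists_quotient_descend (F₀ : (D.obj i₀).Modules) [Coh.IsQCoh F₀] (hF₀ : CohB1.IsFP F₀)
    {G : c.pt.Modules} [Coh.IsQCoh G] (hG : CohB1.IsFP G)
    (p : (Scheme.Modules.pullback (c.π.app i₀)).obj F₀ ⟶ G) [Epi p] :
    ∃ (j : I) (φ : j ⟶ i₀) (Gj : (D.obj j).Modules) (_ : Coh.IsQCoh Gj)
      (pj : (Scheme.Modules.pullback (D.map φ)).obj F₀ ⟶ Gj)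
      (e : (Scheme.Modules.pullback (c.π.app j)).obj Gj ≅ G),
      CohB1.IsFP Gj ∧ Epi pj ∧
        ((cmp (c.π.app j) (D.map φ) (c.w φ)).app F₀).inv ≫
          (Scheme.Modules.pullback (c.π.app j)).map pj ≫ e.hom = p := by
  classical
  haveI := isAffineHom_π_app D c hc
  obtain ⟨Vs, -, hVs⟩ := exists_finset_affine_cover (⊤ : (D.obj i₀).Opens) isCompact_univ
  have qF := M1.isQCoh_pullback (c.π.app i₀) (M := F₀) ‹_›
  haveI : Coh.IsQCoh (kernel p) := M1.isQCoh_kernel qF ‹Coh.IsQCoh G› p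
  have hKft := isFT_kernel qF (M1.isFT_pullback _ (M1.isFP_isFT hF₀)) hG p
  have hfin : ∀ V : (D.obj i₀).affineOpens, ∃ T : Finset Γ(kernel p, c.π.app i₀ ⁻¹ᵁ (V : (D.obj i₀).Opens)),
      Submodule.span Γ(c.pt, c.π.app i₀ ⁻¹ᵁ (V : (D.obj i₀).Opens))
        (↑T : Set Γ(kernel p, c.π.app i₀ ⁻¹ᵁ (V : (D.obj i₀).Opens))) = ⊤ := fun V =>
    (M1.finite_sections ‹Coh.IsQCoh (kernel p)› hKft (isAffineOpen_stage hc V.2)).fg_top
  choose T hT using hfin
  obtain ⟨j, φ, hj⟩ := exists_common (j := i₀) (Vs.sigma T)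
    (fun q k α => ∃ a : Γ((Scheme.Modules.pullback (D.map α)).obj F₀, D.map α ⁻¹ᵁ q.1.1),
      trans (c.π.app k) (D.map α) F₀ (c.w α) (le_stage α q.1.1) a = (kernel.ι p).app _ q.2)
    (fun q k k' α β ⟨a, ha⟩ => ⟨trans (D.map β) (D.map α) F₀ (D.map_comp β α).symm (le_step β α q.1.1) a, by
      rw [trans_stage (c := c) q.1.2]; exact ha⟩)
    (fun q _ => exists_trans_eq hc F₀ q.1.2 _)
  haveI : CompactSpace (D.obj j) := QuasiCompact.compactSpace_of_compactSpace (D.map φ)
  haveI : QuasiSeparatedSpace (D.obj j) := quasiSeparatedSpace_of_quasiSeparated (D.map φ)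
  let Fj := (Scheme.Modules.pullback (D.map φ)).obj F₀
  have qFj : Coh.IsQCoh Fj := M1.isQCoh_pullback (D.map φ) ‹Coh.IsQCoh F₀›
  let θ : (Scheme.Modules.pullback (c.π.app j)).obj Fj ⟶ G :=
    ((cmp (c.π.app j) (D.map φ) (c.w φ)).app F₀).hom ≫ p
  let a : Fj ⟶ (Scheme.Modules.pushforward (c.π.app j)).obj G :=
    (Scheme.Modules.pullbackPushforwardAdjunction (c.π.app j)).homEquiv Fj G θ
  have ha : a = (Scheme.Modules.pullbackPushforwardAdjunction (c.π.app j)).unit.app Fj ≫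
      (Scheme.Modules.pushforward (c.π.app j)).map θ := Adjunction.homEquiv_unit _ _ _ _
  let L := Sub.ker a
  have hLq : Coh.IsQCoh L.P := M1.isQCoh_kernel qFj (M1.isQCoh_push _ ‹Coh.IsQCoh G›) a
  have hsec : ∀ q ∈ Vs.sigma T, ∃ b : Γ(L.P, D.map φ ⁻¹ᵁ q.1.1),
      trans (c.π.app j) (D.map φ) F₀ (c.w φ) (le_stage φ q.1.1) (L.i.app _ b) =
        (kernel.ι p).app _ q.2 := fun q hq => by
    obtain ⟨s, hs⟩ := hj q hq
    have hmem : L.mem (D.map φ ⁻¹ᵁ q.1.1) s := by
      refine (Sub.mem_ker a _ s).2 ?_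
      rw [ha]
      show θ.app (c.π.app j ⁻¹ᵁ (D.map φ ⁻¹ᵁ q.1.1)) (M2.pullSec (c.π.app j) Fj s) = 0
      have le : c.π.app j ⁻¹ᵁ (D.map φ ⁻¹ᵁ q.1.1) ≤ c.π.app i₀ ⁻¹ᵁ q.1.1 := by
        rw [← Scheme.Hom.comp_preimage, c.w]
      rw [show M2.pullSec (c.π.app j) Fj s =
          mres _ le (res' (c.π.app j) Fj (le_stage φ q.1.1) s) from
        ((mres_mres _ _ _ _).trans (mres_id _ _ _)).symm, app_mres]
      show mres G le (p.app _ (trans (c.π.app j) (D.map φ) F₀ (c.w φ) (le_stage φ q.1.1) s)) = 0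
      rw [hs, ← comp_app_apply, kernel.condition]
      exact map_zero _
    obtain ⟨b, hb⟩ := hmem
    exact ⟨b, by rw [hb, hs]⟩
  choose b hb using hsec
  obtain ⟨Q, hQ, hQ', hQm⟩ := exists_sub_through hLq (Vs.sigma T).attach
    (fun q => ⟨D.map φ ⁻¹ᵁ q.1.1.1, q.1.1.2.preimage _⟩) (fun q => b q.1 q.2)
  let ι' : Q.P ⟶ Fj := Q.i ≫ L.i
  let π := Scheme.Modules.pullback (c.π.app j)
  let κ := cmp (c.π.app j) (D.map φ) (c.w φ)
  have hι : π.map ι' ≫ θ = 0 := by
    refine ((Scheme.Modules.pullbackPushforwardAdjunction (c.π.app j)).homEquiv _ _).injective ?_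
    rw [Adjunction.homEquiv_naturality_left]
    show (Q.i ≫ L.i) ≫ a = _
    rw [Category.assoc, show L.i ≫ a = 0 from kernel.condition a, comp_zero, Adjunction.homEquiv_unit,
      Functor.map_zero, comp_zero]
  let d : cokernel (π.map ι') ⟶ G := cokernel.desc _ θ hι
  let ψ : (Scheme.Modules.pullback (c.π.app i₀)).obj F₀ ⟶ cokernel (π.map ι') :=
    (κ.app F₀).inv ≫ cokernel.π (π.map ι')
  have hψ : kernel.ι p ≫ ψ = 0 := by
    refine hom_eq_zero_of_generators _ fun x => ?_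
    obtain ⟨V, hV, hxV⟩ := hVs (c.π.app i₀ x) trivial
    refine ⟨c.π.app i₀ ⁻¹ᵁ V.1, ↑(T V), hxV, isAffineOpen_stage hc V.2, hT V, fun t ht => ?_⟩
    have hq : (⟨V, t⟩ : Σ V : (D.obj i₀).affineOpens, Γ(kernel p, c.π.app i₀ ⁻¹ᵁ (V : (D.obj i₀).Opens))) ∈
        Vs.sigma T := Finset.mem_sigma.2 ⟨hV, ht⟩
    obtain ⟨b', hb'⟩ := hQm ⟨_, hq⟩ (Finset.mem_attach _ _)
    rw [comp_app_apply, ← hb _ hq, ← hb', ← comp_app_apply Q.i L.i]
    show (cokernel.π (π.map ι')).app _ ((κ.app F₀).inv.app _ (trans _ _ _ _ _ _)) = 0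
    rw [cmp_inv_trans]
    show (cokernel.π (π.map ι')).app _ (res' (c.π.app j) Fj (le_stage φ V.1) (ι'.app _ b')) = 0
    rw [← map_res', ← comp_app_apply, cokernel.condition]
    rfl
  let k : G ⟶ cokernel (π.map ι') := Abelian.epiDesc p ψ hψ
  have hk : p ≫ k = ψ := Abelian.comp_epiDesc _ _ _
  have hd : cokernel.π (π.map ι') ≫ d = θ := cokernel.π_desc _ _ _
  let e₀ : cokernel (π.map ι') ≅ G :=
    { hom := d
      inv := k
      hom_inv_id := by
        rw [← cancel_epi (cokernel.π (π.map ι')), ← Category.assoc, hd, Category.assoc, hk]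
        simp [ψ, κ]
      inv_hom_id := by
        rw [← cancel_epi p, ← Category.assoc, hk, Category.assoc, hd]
        simp [θ, κ] }
  refine ⟨j, φ, cokernel ι', M1.isQCoh_cokernel hQ qFj ι', cokernel.π ι',
    PreservesCokernel.iso π ι' ≪≫ e₀, isFP_cokernel hQ hQ' (M1.isFP_pullback _ hF₀) ι',
    inferInstance, ?_⟩
  have h1 : π.map (cokernel.π ι') ≫ (PreservesCokernel.iso π ι').hom = cokernel.π (π.map ι') := by
    rw [← cancel_mono (PreservesCokernel.iso π ι').inv, Category.assoc, Iso.hom_inv_id, Category.comp_id,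
      PreservesCokernel.iso_inv, π_comp_cokernelComparison]
  rw [Iso.trans_hom, ← Category.assoc (π.map (cokernel.π ι')), h1, hd]
  simp [θ, κ]

end Groth.Agent.ModLimH13
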