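import Groth.Agent.Lib.ModLimH13.Quot

/-!
# Descent of finitely presented modules to a locally noetherian stage
-/

universe u

set_option linter.style.haveILetI false
set_option backward.isDefEq.respectTransparency false

open AlgebraicGeometry CategoryTheory Limits Groth.Agent.M1

namespace Groth.Agent.ModLimH13

variable {I : Type u} [SmallCategory I] [IsCofiltered I] {D : I ⥤ Scheme.{u}} {c : Cone D}
  (hc : IsLimit c) [∀ (i j : I) (f : i ⟶ j), IsAffineHom (D.map f)] {i₀ : I}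
  [CompactSpace (D.obj i₀)] [QuasiSeparatedSpace (D.obj i₀)]

include hc in
/-- Every module of finite presentation on the limit is a quotient of the pullback of a
quasi-coherent module of finite type on a quasi-compact quasi-separated stage. -/
theorem exists_epi_from_stage (F : c.pt.Modules) [Coh.IsQCoh F] (hF : CohB1.IsFT F) :
    ∃ (Q : (D.obj i₀).Modules) (θ : (Scheme.Modules.pullback (c.π.app i₀)).obj Q ⟶ F),
      Coh.IsQCoh Q ∧ CohB1.IsFT Q ∧ Epi θ := by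
  classical
  haveI := isAffineHom_π_app D c hc i₀
  obtain ⟨Vs, -, hVs⟩ := exists_finset_affine_cover (⊤ : (D.obj i₀).Opens) isCompact_univ
  let P := (Scheme.Modules.pushforward (c.π.app i₀)).obj F
  have hP : Coh.IsQCoh P := M1.isQCoh_push _ ‹Coh.IsQCoh F›
  have hfin : ∀ V : (D.obj i₀).affineOpens, ∃ T : Finset Γ(F, c.π.app i₀ ⁻¹ᵁ (V : (D.obj i₀).Opens)),
      Submodule.span Γ(c.pt, c.π.app i₀ ⁻¹ᵁ (V : (D.obj i₀).Opens))
        (↑T : Set Γ(F, c.π.app i₀ ⁻¹ᵁ (V : (D.obj i₀).Opens))) = ⊤ := fun V =>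
    (M1.finite_sections ‹Coh.IsQCoh F› hF (isAffineOpen_stage hc V.2)).fg_top
  choose T hT using hfin
  obtain ⟨Q, hQ, hQ', hQm⟩ := exists_sub_through hP (Vs.sigma T) (fun q => q.1)
    (fun q => (show Γ(P, (q.1 : (D.obj i₀).Opens)) from q.2))
  let adj := Scheme.Modules.pullbackPushforwardAdjunction (c.π.app i₀)
  let θ := (adj.homEquiv Q.P F).symm Q.i
  have hθ : ∀ (V : (D.obj i₀).Opens) (b : Γ(Q.P, V)),
      θ.app (c.π.app i₀ ⁻¹ᵁ V) (M2.pullSec (c.π.app i₀) Q.P b) = Q.i.app V b := fun V b => by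
    have e := (adj.homEquiv Q.P F).apply_symm_apply Q.i
    rw [Adjunction.homEquiv_unit] at e
    exact congrArg (fun m : Q.P ⟶ P => m.app V b) e
  refine ⟨Q.P, θ, hQ, hQ', Abelian.epi_of_cokernel_π_eq_zero θ ?_⟩
  refine hom_eq_zero_of_generators (cokernel.π θ) fun x => ?_
  obtain ⟨V, hV, hxV⟩ := hVs (c.π.app i₀ x) trivial
  refine ⟨c.π.app i₀ ⁻¹ᵁ V.1, ↑(T V), hxV, isAffineOpen_stage hc V.2, hT V, fun t ht => ?_⟩
  obtain ⟨b, hb⟩ := hQm ⟨V, t⟩ (Finset.mem_sigma.2 ⟨hV, ht⟩)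
  rw [show t = θ.app (c.π.app i₀ ⁻¹ᵁ V.1) (M2.pullSec (c.π.app i₀) Q.P b) from (hb.symm.trans (hθ V.1 b).symm),
    ← comp_app_apply, cokernel.condition]
  rfl

include hc in
/-- A module of finite presentation on the limit comes from a stage when a stage is locally
noetherian. -/
theorem exists_module_descend_noetherian [IsLocallyNoetherian (D.obj i₀)] (F : c.pt.Modules)
    [Coh.IsQCoh F] (hF : CohB1.IsFP F) :
    ∃ (j : I) (_ : j ⟶ i₀) (Fj : (D.obj j).Modules) (_ : Coh.IsQCoh Fj),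
      CohB1.IsFP Fj ∧ Nonempty ((Scheme.Modules.pullback (c.π.app j)).obj Fj ≅ F) := by
  obtain ⟨Q, θ, hQ, hQ', hθ⟩ := exists_epi_from_stage hc (i₀ := i₀) F (M1.isFP_isFT hF)
  haveI := hQ
  haveI := hθ
  obtain ⟨j, φ, Gj, hGj, pj, e, hfp, -, -⟩ :=
    exists_quotient_descend hc Q (M1.isFP_of_isCoh ⟨hQ, hQ'⟩) hF θ
  exact ⟨j, φ, Gj, hGj, hfp, ⟨e⟩⟩

end Groth.Agent.ModLimH13
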