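import Groth.Agent.Lib.ModLimH13.Hom1
import Groth.Agent.Lib.ModM1.LocFree
import Groth.Agent.Lib.TensorMod.Invertible
import Groth.Agent.Lib.FlatH4.FlatComp
import Groth.Agent.S4849

/-!
# Locally free modules along a limit of schemes
-/

universe u

set_option linter.style.haveILetI false
set_option backward.isDefEq.respectTransparency false

open AlgebraicGeometry CategoryTheory Limits

namespace Groth.Agent.ModLimH13

variable {X Y : Scheme.{u}}

theorem isFlatOverAt_id_iff (F : X.Modules) (x : X) :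
    FlatMod.IsFlatOverAt (𝟙 X) F x ↔ FlatMod.IsFlatAt F x := by
  have key : FlatMod.moduleStalkOver (𝟙 X) F x = FlatMod.moduleStalk F x := by
    refine Module.ext' _ _ fun r m => ?_
    show (FlatMod.moduleStalk F x).toDistribMulAction.toMulAction.toSemigroupAction.toSMul.smul
      ((Scheme.Hom.stalkMap (𝟙 X) x) r) m = _
    rw [Scheme.Hom.stalkMap_id]
    rfl
  show @Module.Flat _ _ _ _ (FlatMod.moduleStalkOver (𝟙 X) F x) ↔
    @Module.Flat _ _ _ _ (FlatMod.moduleStalk F x)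
  rw [key]
  rfl

theorem isFlat_of_isFlatOver_iso {S : Scheme.{u}} (f : X ⟶ S) [IsIso f] {F : X.Modules}
    (h : FlatMod.IsFlatOver f F) : FlatMod.IsFlat F := by
  intro x
  have h1 := FlatH4.isFlatOverAt_comp f (inv f) F x (Flat.stalkMap _ _) (h x)
  rw [IsIso.hom_inv_id] at h1
  exact (isFlatOverAt_id_iff F x).1 h1

theorem rank_unique [Nonempty X] {n m : ℕ} (e : FlatMod.freeMod X n ≅ FlatMod.freeMod X m) :
    n = m := by
  obtain ⟨x⟩ := ‹Nonempty X›
  let K := X.residueField x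
  let e' : FlatMod.freeMod (Spec K) n ≅ FlatMod.freeMod (Spec K) m :=
    (M2.freeModPullbackIso (X.fromSpecResidueField x) n).symm ≪≫
      (Scheme.Modules.pullback _).mapIso e ≪≫ M2.freeModPullbackIso (X.fromSpecResidueField x) m
  let e'' : (tilde.functor K).obj (ModuleCat.of K (ULift.{u} (Fin n) →₀ K)) ≅
      (tilde.functor K).obj (ModuleCat.of K (ULift.{u} (Fin m) →₀ K)) :=
    M1.frTildeIso _ ≪≫ (M1.freeModFrIso _ n).symm ≪≫ e' ≪≫ M1.freeModFrIso _ m ≪≫
      (M1.frTildeIso _).symm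
  have := LinearEquiv.finrank_eq ((tilde.functor K).preimageIso e'').toLinearEquiv
  simpa using this

theorem rank_unique_at {M : X.Modules} {n m : ℕ} {x : X} {U V : X.Opens} (hxU : x ∈ U) (hxV : x ∈ V)
    (e : M.restrict U.ι ≅ FlatMod.freeMod (U : Scheme.{u}) n)
    (e' : M.restrict V.ι ≅ FlatMod.freeMod (V : Scheme.{u}) m) : n = m := by
  obtain ⟨a⟩ := M2.nonempty_free_mono (inf_le_left : U ⊓ V ≤ U) e
  obtain ⟨b⟩ := M2.nonempty_free_mono (inf_le_right : U ⊓ V ≤ V) e'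
  haveI : Nonempty ((U ⊓ V : X.Opens) : Scheme.{u}) := ⟨⟨x, hxU, hxV⟩⟩
  exact rank_unique (a.symm ≪≫ b)

/-- points near which the module is free of rank `n` -/
noncomputable def rankLocus (n : ℕ) (M : X.Modules) : X.Opens :=
  ⨆ U : {U : X.Opens // Nonempty (M.restrict U.ι ≅ FlatMod.freeMod (U : Scheme.{u}) n)}, U.1

theorem mem_rankLocus {n : ℕ} {M : X.Modules} {x : X} :
    x ∈ rankLocus n M ↔
      ∃ U : X.Opens, x ∈ U ∧ Nonempty (M.restrict U.ι ≅ FlatMod.freeMod (U : Scheme.{u}) n) := by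
  simp only [rankLocus, TopologicalSpace.Opens.mem_iSup]
  exact ⟨fun ⟨⟨U, h⟩, hx⟩ => ⟨U, hx, h⟩, fun ⟨U, hx, h⟩ => ⟨⟨U, h⟩, hx⟩⟩

section Lim

variable {I : Type u} [SmallCategory I] [IsCofiltered I] {D : I ⥤ Scheme.{u}} {c : Cone D}
  (hc : IsLimit c) [∀ (i j : I) (f : i ⟶ j), IsAffineHom (D.map f)] {i₀ : I}
  [CompactSpace (D.obj i₀)]

include hc

theorem isFinLocFree_iff_eventually {F₀ : (D.obj i₀).Modules} (hF : CohB1.IsFP F₀) :
    FlatMod.IsFinLocFree ((Scheme.Modules.pullback (c.π.app i₀)).obj F₀) ↔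
      ∃ (j : I) (φ : j ⟶ i₀),
        FlatMod.IsFinLocFree ((Scheme.Modules.pullback (D.map φ)).obj F₀) := by
  haveI := M1.isFP_isQCoh hF
  constructor
  · intro h
    have hX : IsPullback (c.π.app i₀) (𝟙 c.pt) (𝟙 (D.obj i₀)) (c.π.app i₀) :=
      IsPullback.id_vert _
    have hflat : FlatMod.IsFlatOver (𝟙 c.pt) ((Scheme.Modules.pullback (c.π.app i₀)).obj F₀) := by
      intro x
      have hfree := ((M1.isFinLocFree_iff _).1 h).2 x
      exact (isFlatOverAt_id_iff _ x).2 (@Module.Flat.of_free _ _ _ _ _ hfree)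
    obtain ⟨i, φ, Xi, Yi, fi, gi, pY, pX, hYi, hXi, hfl⟩ :=
      (S4849.result D c hc i₀ (𝟙 (D.obj i₀)) (𝟙 (D.obj i₀)) F₀ hF (𝟙 c.pt) (𝟙 c.pt) _ _ hX hX).1
        hflat
    haveI : IsIso gi := hYi.isIso_snd_of_isIso
    haveI : IsIso fi := hXi.isIso_snd_of_isIso
    have hF' := isFlat_of_isFlatOver_iso fi hfl
    have hloc : FlatMod.IsFinLocFree ((Scheme.Modules.pullback pX).obj F₀) :=
      (M1.isFinLocFree_iff _).2 ⟨M1.isFP_pullback pX hF,
        fun x => M1.free_stalk_of_flat (M1.isFP_pullback pX hF) x (hF' x)⟩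
    have hp : inv (fi ≫ gi) ≫ pX = D.map φ := by
      rw [IsIso.inv_comp_eq]
      have h1 : pX = fi ≫ pY := by simpa using hXi.w
      have h2 : pY = gi ≫ D.map φ := by simpa using hYi.w
      rw [h1, h2, Category.assoc]
    exact ⟨i, φ, M2.isFinLocFree_of_iso ((cmp _ pX hp).app F₀)
      (M2.isFinLocFree_pullback _ hloc)⟩
  · rintro ⟨j, φ, h⟩
    exact M2.isFinLocFree_of_iso ((cmp (c.π.app j) (D.map φ) (c.w φ)).app F₀)
      (M2.isFinLocFree_pullback _ h)

theorem isFinLocFreeOfRank_iff_eventually {F₀ : (D.obj i₀).Modules} (hF : CohB1.IsFP F₀) (n : ℕ) :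
    FlatMod.IsFinLocFreeOfRank n ((Scheme.Modules.pullback (c.π.app i₀)).obj F₀) ↔
      ∃ (j : I) (φ : j ⟶ i₀),
        FlatMod.IsFinLocFreeOfRank n ((Scheme.Modules.pullback (D.map φ)).obj F₀) := by
  constructor
  · intro h
    obtain ⟨j, φ, hj⟩ := (isFinLocFree_iff_eventually hc hF).1 (M2.isFinLocFree_of_ofRank h)
    haveI : CompactSpace (D.obj j) := QuasiCompact.compactSpace_of_compactSpace (D.map φ)
    let M := (Scheme.Modules.pullback (D.map φ)).obj F₀
    have htop : c.π.app j ⁻¹ᵁ rankLocus n M = ⊤ := by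
      rw [eq_top_iff]
      intro x _
      obtain ⟨U, m, hxU, ⟨e⟩⟩ := hj (c.π.app j x)
      obtain ⟨V, hxV, ⟨e'⟩⟩ := M2.isFinLocFreeOfRank_of_iso
        ((cmp (c.π.app j) (D.map φ) (c.w φ)).app F₀).symm h x
      let eU := M2.pullbackRestrictIso (c.π.app j) M U ≪≫ (Scheme.Modules.pullback _).mapIso e ≪≫
        M2.freeModPullbackIso _ m
      obtain rfl : m = n := rank_unique_at (show x ∈ c.π.app j ⁻¹ᵁ U from hxU) hxV eU e'
      exact mem_rankLocus.2 ⟨U, hxU, ⟨e⟩⟩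
    haveI : ∀ {a b : Over j} (f : a ⟶ b), IsAffineHom ((Over.forget j ⋙ D).map f) :=
      fun f => by dsimp; infer_instance
    haveI : ∀ a : Over j, CompactSpace ((Over.forget j ⋙ D).obj a) :=
      fun a => QuasiCompact.compactSpace_of_compactSpace (D.map a.hom)
    obtain ⟨k, a, hk⟩ := exists_map_eq_top (Over.forget j ⋙ D) (c.whisker (Over.forget j))
      ((Functor.Initial.isLimitWhiskerEquiv (Over.forget j) c).symm hc)
      (i := Over.mk (𝟙 j)) (rankLocus n M) htop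
    refine ⟨k.left, a.left ≫ φ,
      M2.isFinLocFreeOfRank_of_iso ((cmp (D.map a.left) (D.map φ) (D.map_comp _ _).symm).app F₀) ?_⟩
    intro y
    obtain ⟨U, hyU, ⟨e⟩⟩ := mem_rankLocus.1
      (show D.map a.left y ∈ rankLocus n M from (hk.ge (Set.mem_univ y)))
    exact ⟨D.map a.left ⁻¹ᵁ U, hyU, ⟨M2.pullbackRestrictIso _ M U ≪≫
      (Scheme.Modules.pullback _).mapIso e ≪≫ M2.freeModPullbackIso _ n⟩⟩
  · rintro ⟨j, φ, h⟩
    exact M2.isFinLocFreeOfRank_of_iso ((cmp (c.π.app j) (D.map φ) (c.w φ)).app F₀)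
      (M2.isFinLocFreeOfRank_pullback _ h)

end Lim

end Groth.Agent.ModLimH13
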