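import Groth.Agent.Lib.ModLimH13.Sections
import Groth.Agent.Lib.LimH13.Stalk

/-!
# Sections of a module pulled back to a limit of schemes
-/

universe u v

set_option linter.style.haveILetI false
set_option backward.isDefEq.respectTransparency false

open AlgebraicGeometry CategoryTheory Limits TensorProduct

namespace Groth.Agent.ModLimH13

private theorem exists_preimage_aux {A : Type u} [CommRing A] {K F N B' : Type u} [AddCommGroup K]
    [Module A K] [AddCommGroup F] [Module A F] [AddCommGroup N] [Module A N] [AddCommGroup B'] [Module A B']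
    (i : K →ₗ[A] F) (p : F →ₗ[A] N) (he : Function.Exact i p) (hp : Function.Surjective p)
    (x : B' ⊗[A] F) (hx : p.lTensor B' x = 0) : ∃ w, i.lTensor B' w = x :=
  ((lTensor_exact B' he hp) x).1 hx

/-- A tensor killed in a filtered colimit is killed at a stage. -/
theorem exists_rTensor_eq_zero {A : Type u} [CommRing A] {N : Type u} [AddCommGroup N] [Module A N]
    {B B' : Type u} [AddCommGroup B] [Module A B] [AddCommGroup B'] [Module A B']
    {κ : Type v} {Bk : κ → Type u} [∀ k, AddCommGroup (Bk k)] [∀ k, Module A (Bk k)]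
    (ρ : ∀ k, B →ₗ[A] Bk k) (πk : ∀ k, Bk k →ₗ[A] B') (π : B →ₗ[A] B') (hρ : ∀ k, πk k ∘ₗ ρ k = π)
    (hsurj : ∀ T : Finset B', ∃ k, ∀ b ∈ T, b ∈ LinearMap.range (πk k))
    (hinj : ∀ k (T : Finset (Bk k)), (∀ x ∈ T, πk k x = 0) →
      ∃ (k' : κ) (σ : Bk k →ₗ[A] Bk k'), σ ∘ₗ ρ k = ρ k' ∧ ∀ x ∈ T, σ x = 0)
    (z : B ⊗[A] N) (hz : π.rTensor N z = 0) : ∃ k, (ρ k).rTensor N z = 0 := by
  classical
  let p : (N →₀ A) →ₗ[A] N := Finsupp.linearCombination A id
  have hp : Function.Surjective p := fun n => ⟨Finsupp.single n 1, by simp [p]⟩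
  obtain ⟨z0, rfl⟩ := LinearMap.lTensor_surjective B hp z
  have he : Function.Exact (LinearMap.ker p).subtype p := p.exact_subtype_ker_map
  have hz' : p.lTensor B' (π.rTensor _ z0) = 0 := by
    rw [← LinearMap.comp_apply, LinearMap.lTensor_comp_rTensor, ← LinearMap.rTensor_comp_lTensor]
    exact hz
  obtain ⟨w, hw⟩ := exists_preimage_aux (K := ↥(LinearMap.ker p)) (F := N →₀ A) (LinearMap.ker p).subtype p he hp _ hz'
  obtain ⟨S, rfl⟩ := TensorProduct.exists_finset w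
  obtain ⟨k, hk⟩ := hsurj (S.image Prod.fst)
  have hk' : ∀ i : S, ∃ b, πk k b = i.1.1 := fun i => hk _ (Finset.mem_image_of_mem _ i.2)
  choose b hb using hk'
  let wk : Bk k ⊗[A] LinearMap.ker p := ∑ i : S, b i ⊗ₜ i.1.2
  let d := (ρ k).rTensor (N →₀ A) z0 - (LinearMap.ker p).subtype.lTensor (Bk k) wk
  have hd : (πk k).rTensor _ d = 0 := by
    rw [map_sub, ← LinearMap.rTensor_comp_apply, hρ, ← LinearMap.comp_apply ((πk k).rTensor _),
      LinearMap.rTensor_comp_lTensor, ← LinearMap.lTensor_comp_rTensor, LinearMap.comp_apply, sub_eq_zero,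
      ← hw]
    congr 1
    simp [wk, hb]
    exact (Finset.sum_attach S (fun i => i.1 ⊗ₜ[A] i.2)).symm
  have hnat : ∀ {C C' : Type u} [AddCommGroup C] [Module A C] [AddCommGroup C'] [Module A C']
      (f : C →ₗ[A] C') (x : C ⊗[A] (N →₀ A)) (n : N),
      TensorProduct.finsuppScalarRight A A C' N (f.rTensor _ x) n =
        f (TensorProduct.finsuppScalarRight A A C N x n) := by
    intro C C' _ _ _ _ f x n
    induction x using TensorProduct.induction_on with
    | zero => simp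
    | tmul c a => simp
    | add x y hx hy => simp [hx, hy]
  let e := TensorProduct.finsuppScalarRight A A (Bk k) N d
  obtain ⟨k', σ, hσ, hσT⟩ := hinj k (e.support.image fun n => e n) (by
    intro x hx
    obtain ⟨n, -, rfl⟩ := Finset.mem_image.1 hx
    rw [← hnat, hd]
    simp)
  refine ⟨k', ?_⟩
  have hσd : σ.rTensor _ d = 0 := by
    refine (TensorProduct.finsuppScalarRight A A (Bk k') N).injective (Finsupp.ext fun n => ?_)
    rw [hnat, map_zero, Finsupp.coe_zero, Pi.zero_apply]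
    by_cases hn : n ∈ e.support
    · exact hσT _ (Finset.mem_image_of_mem _ hn)
    · rw [Finsupp.notMem_support_iff.1 hn, map_zero]
  rw [← hσ, LinearMap.rTensor_comp_apply, ← LinearMap.comp_apply ((ρ k).rTensor N),
    LinearMap.rTensor_comp_lTensor, ← LinearMap.lTensor_comp_rTensor, LinearMap.comp_apply,
    show (ρ k).rTensor (N →₀ A) z0 = d + (LinearMap.ker p).subtype.lTensor (Bk k) wk from (sub_add_cancel _ _).symm]
  have hp0 : ∀ y, p.lTensor (Bk k) ((LinearMap.ker p).subtype.lTensor (Bk k) y) = 0 := fun y => by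
    rw [← LinearMap.lTensor_comp_apply, LinearMap.comp_ker_subtype, LinearMap.lTensor_zero, LinearMap.zero_apply]
  rw [map_add, hp0, add_zero, ← LinearMap.comp_apply, LinearMap.rTensor_comp_lTensor,
    ← LinearMap.lTensor_comp_rTensor, LinearMap.comp_apply, hσd, map_zero]

section Limit

variable {I : Type u} [SmallCategory I] [IsCofiltered I] {D : I ⥤ Scheme.{u}} {c : Cone D}
  (hc : IsLimit c) [∀ (i j : I) (f : i ⟶ j), IsAffineHom (D.map f)] {i₀ : I}

lemma le_stage {j : I} (φ : j ⟶ i₀) (V : (D.obj i₀).Opens) :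
    c.π.app i₀ ⁻¹ᵁ V ≤ c.π.app j ⁻¹ᵁ (D.map φ ⁻¹ᵁ V) := by
  rw [← Scheme.Hom.comp_preimage, c.w]

lemma le_step {k j : I} (α : k ⟶ j) (φ : j ⟶ i₀) (V : (D.obj i₀).Opens) :
    D.map (α ≫ φ) ⁻¹ᵁ V ≤ D.map α ⁻¹ᵁ (D.map φ ⁻¹ᵁ V) := by
  rw [← Scheme.Hom.comp_preimage, ← Functor.map_comp]

include hc in
lemma isAffineOpen_stage {V : (D.obj i₀).Opens} (hV : IsAffineOpen V) :
    IsAffineOpen (c.π.app i₀ ⁻¹ᵁ V) :=
  haveI := isAffineHom_π_app D c hc i₀
  hV.preimage _

include hc in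
/-- A function killed on the limit is killed at a stage. -/
lemma exists_appLE_eq_zero {k : I} {U : (D.obj k).Opens} (hU : IsCompact (U : Set (D.obj k)))
    (x : Γ(D.obj k, U)) {W : c.pt.Opens} (e : W ≤ c.π.app k ⁻¹ᵁ U) (hW : c.π.app k ⁻¹ᵁ U ≤ W)
    (hx : (c.π.app k).appLE U W e x = 0) : ∃ (k' : I) (β : k' ⟶ k), (D.map β).app U x = 0 := by
  obtain rfl : W = c.π.app k ⁻¹ᵁ U := le_antisymm e hW
  rw [Scheme.Hom.appLE_eq_app] at hx
  obtain ⟨k', β, h⟩ := exists_app_map_eq_map_of_isLimit D c hc hU x 0 (by rw [hx, map_zero])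
  exact ⟨k', β, by rw [h, map_zero]⟩

variable (G : (D.obj i₀).Modules) [Coh.IsQCoh G] {V : (D.obj i₀).Opens} (hV : IsAffineOpen V)

include hc hV in
/-- A section killed on the limit is killed at a stage. -/
theorem exists_trans_eq_zero {j : I} (φ : j ⟶ i₀)
    (a : Γ((Scheme.Modules.pullback (D.map φ)).obj G, D.map φ ⁻¹ᵁ V))
    (h : trans (c.π.app j) (D.map φ) G (c.w φ) (le_stage φ V) a = 0) :
    ∃ (k : I) (α : k ⟶ j),
      trans (D.map α) (D.map φ) G (D.map_comp α φ).symm (le_step α φ V) a = 0 := by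
  classical
  have hVj : IsAffineOpen (D.map φ ⁻¹ᵁ V) := hV.preimage _
  have hV' := isAffineOpen_stage hc hV
  letI algB := ((D.map φ).appLE V (D.map φ ⁻¹ᵁ V) le_rfl).hom.toAlgebra
  letI algB' : Algebra Γ(D.obj i₀, V) Γ(c.pt, c.π.app i₀ ⁻¹ᵁ V) := ((c.π.app i₀).appLE V (c.π.app i₀ ⁻¹ᵁ V) le_rfl).hom.toAlgebra
  let κ := Σ k : I, (k ⟶ j)
  letI algk : ∀ q : κ, Algebra Γ(D.obj i₀, V) Γ(D.obj q.1, D.map (q.2 ≫ φ) ⁻¹ᵁ V) :=
    fun q => ((D.map (q.2 ≫ φ)).appLE V (D.map (q.2 ≫ φ) ⁻¹ᵁ V) le_rfl).hom.toAlgebra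
  let ρ : ∀ q : κ, Γ(D.obj j, D.map φ ⁻¹ᵁ V) →ₐ[Γ(D.obj i₀, V)]
      Γ(D.obj q.1, D.map (q.2 ≫ φ) ⁻¹ᵁ V) := fun q =>
    { ((D.map q.2).appLE _ _ (le_step q.2 φ V)).hom with
      commutes' := fun r => by
        show ((D.map φ).appLE V _ le_rfl ≫ (D.map q.2).appLE _ _ (le_step q.2 φ V)) r = _
        rw [Scheme.Hom.appLE_comp_appLE]
        simp only [← D.map_comp]
        rfl }
  let π : Γ(D.obj j, D.map φ ⁻¹ᵁ V) →ₐ[Γ(D.obj i₀, V)] Γ(c.pt, c.π.app i₀ ⁻¹ᵁ V) :=
    { ((c.π.app j).appLE _ _ (le_stage φ V)).hom with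
      commutes' := fun r => by
        show ((D.map φ).appLE V _ le_rfl ≫ (c.π.app j).appLE _ _ (le_stage φ V)) r = _
        rw [Scheme.Hom.appLE_comp_appLE]
        simp only [c.w]
        rfl }
  let πk : ∀ q : κ, Γ(D.obj q.1, D.map (q.2 ≫ φ) ⁻¹ᵁ V) →ₐ[Γ(D.obj i₀, V)]
      Γ(c.pt, c.π.app i₀ ⁻¹ᵁ V) := fun q =>
    { ((c.π.app q.1).appLE _ _ (le_stage (q.2 ≫ φ) V)).hom with
      commutes' := fun r => by
        show ((D.map (q.2 ≫ φ)).appLE V _ le_rfl ≫ (c.π.app q.1).appLE _ _ (le_stage (q.2 ≫ φ) V)) r = _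
        rw [Scheme.Hom.appLE_comp_appLE]
        simp only [c.w]
        rfl }
  obtain ⟨Φj, hΦj⟩ := exists_pullEquiv (D.map φ) G (W := V) le_rfl hV hVj
  obtain ⟨Φ, hΦ⟩ := exists_pullEquiv (c.π.app i₀) G (W := V) le_rfl hV hV'
  obtain ⟨z, rfl⟩ := Φj.surjective a
  have hz : π.toLinearMap.rTensor Γ(G, V) z = 0 := by
    have : Φ (π.toLinearMap.rTensor Γ(G, V) z) =
        trans (c.π.app j) (D.map φ) G (c.w φ) (le_stage φ V) (Φj z) := by
      clear h
      induction z using TensorProduct.induction_on with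
      | zero => simp only [map_zero]; rw [trans_zero]
      | tmul b s => rw [LinearMap.rTensor_tmul, hΦ, hΦj, trans_smul, trans_res']; rfl
      | add x y hx hy => simp only [map_add, hx, hy]; rw [trans_add]
    rw [h] at this
    exact Φ.map_eq_zero_iff.1 this
  obtain ⟨q, hq⟩ := exists_rTensor_eq_zero (κ := κ) (fun q => (ρ q).toLinearMap)
    (fun q => (πk q).toLinearMap) π.toLinearMap
    (fun q => LinearMap.ext fun b => by
      show ((D.map q.2).appLE _ _ (le_step q.2 φ V) ≫ (c.π.app q.1).appLE _ _ (le_stage (q.2 ≫ φ) V)) b = _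
      rw [Scheme.Hom.appLE_comp_appLE]
      simp only [c.w]
      rfl)
    (by
      intro T
      induction T using Finset.cons_induction with
      | empty => exact ⟨⟨j, 𝟙 j⟩, by simp⟩
      | cons b T hb ih =>
        obtain ⟨⟨k, α⟩, hk⟩ := ih
        obtain ⟨m, β, s, e, hs⟩ := LimH13.exists_section_of_isLimit hc (i := j) _ hVj
          ((c.pt.presheaf.map (homOfLE (show c.π.app j ⁻¹ᵁ (D.map φ ⁻¹ᵁ V) ≤ c.π.app i₀ ⁻¹ᵁ V by
            rw [← Scheme.Hom.comp_preimage, c.w])).op) b)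
        obtain ⟨n, γ, δ, hγ⟩ := IsCofiltered.cospan α β
        refine ⟨⟨n, γ ≫ α⟩, fun x hx => ?_⟩
        rcases Finset.mem_cons.1 hx with rfl | hx
        · refine ⟨(D.map δ).appLE _ _ ((le_step (γ ≫ α) φ V).trans (by
            rw [hγ, D.map_comp, Scheme.Hom.comp_preimage])) s, ?_⟩
          show ((D.map δ).appLE _ _ _ ≫ (c.π.app n).appLE _ _ (le_stage ((γ ≫ α) ≫ φ) V)) s = x
          rw [Scheme.Hom.appLE_comp_appLE]
          simp only [c.w]
          refine Eq.trans ?_ (Eq.trans (congrArg (c.pt.presheaf.map (homOfLE (le_stage φ V)).op) hs) ?_)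
          · exact (ConcreteCategory.congr_hom ((c.π.app m).appLE_map _ (homOfLE (le_stage φ V)).op) s).symm
          · rw [← CommRingCat.comp_apply, ← Functor.map_comp]
            exact ConcreteCategory.congr_hom (c.pt.presheaf.map_id _) x
        · obtain ⟨y, rfl⟩ := hk x hx
          refine ⟨(D.map γ).appLE _ _ (by
            rw [← Scheme.Hom.comp_preimage, ← Functor.map_comp, Category.assoc]) y, ?_⟩
          show ((D.map γ).appLE _ _ _ ≫ (c.π.app n).appLE _ _ (le_stage ((γ ≫ α) ≫ φ) V)) y =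
            (c.π.app k).appLE _ _ (le_stage (α ≫ φ) V) y
          rw [Scheme.Hom.appLE_comp_appLE]
          simp only [c.w]
          rfl)
    (by
      rintro ⟨k, α⟩ T hT
      letI : Algebra Γ(D.obj i₀, V) Γ(D.obj k, D.map (α ≫ φ) ⁻¹ᵁ V) := algk ⟨k, α⟩
      suffices H : ∃ (k' : I) (β : k' ⟶ k),
          ∀ x ∈ T, (D.map β).app (D.map (α ≫ φ) ⁻¹ᵁ V) x = 0 by
        obtain ⟨k', β, hβ⟩ := H
        have le : D.map ((β ≫ α) ≫ φ) ⁻¹ᵁ V ≤ D.map β ⁻¹ᵁ (D.map (α ≫ φ) ⁻¹ᵁ V) := by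
          rw [← Scheme.Hom.comp_preimage, ← Functor.map_comp, Category.assoc]
        letI : Algebra Γ(D.obj i₀, V) Γ(D.obj k', D.map ((β ≫ α) ≫ φ) ⁻¹ᵁ V) := algk ⟨k', β ≫ α⟩
        let σ : Γ(D.obj k, D.map (α ≫ φ) ⁻¹ᵁ V) →ₐ[Γ(D.obj i₀, V)]
            Γ(D.obj k', D.map ((β ≫ α) ≫ φ) ⁻¹ᵁ V) :=
          { ((D.map β).appLE _ _ le).hom with
            commutes' := fun r => by
              show ((D.map (α ≫ φ)).appLE V _ le_rfl ≫ (D.map β).appLE _ _ le) r = _
              rw [Scheme.Hom.appLE_comp_appLE]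
              simp only [← D.map_comp, ← Category.assoc]
              rfl }
        refine ⟨⟨k', β ≫ α⟩, σ.toLinearMap, LinearMap.ext fun b => ?_, fun x hx => ?_⟩
        · show ((D.map α).appLE _ _ (le_step α φ V) ≫ (D.map β).appLE _ _ le) b =
            (D.map (β ≫ α)).appLE _ _ (le_step (β ≫ α) φ V) b
          rw [Scheme.Hom.appLE_comp_appLE]
          simp only [← D.map_comp]
        · show ((D.map β).app _ ≫ (D.obj k').presheaf.map (homOfLE le).op) x = 0
          rw [CommRingCat.comp_apply, hβ x hx, map_zero]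
      induction T using Finset.cons_induction with
      | empty => exact ⟨k, 𝟙 k, by simp⟩
      | cons x T hxT ih =>
        obtain ⟨k1, β1, h1⟩ := ih (fun y hy => hT y (Finset.mem_cons.2 (Or.inr hy)))
        obtain ⟨k2, β2, h2⟩ := exists_appLE_eq_zero hc (hV.preimage (D.map (α ≫ φ))).isCompact x
          (le_stage (α ≫ φ) V) (by rw [← Scheme.Hom.comp_preimage, c.w])
          (hT x (Finset.mem_cons_self _ _))
        obtain ⟨n, γ, δ, hγ⟩ := IsCofiltered.cospan β1 β2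
        refine ⟨n, γ ≫ β1, fun y hy => ?_⟩
        rcases Finset.mem_cons.1 hy with rfl | hy
        · rw [Scheme.Hom.congr_app (show D.map (γ ≫ β1) = D.map δ ≫ D.map β2 by rw [hγ, D.map_comp]),
            Scheme.Hom.comp_app, CommRingCat.comp_apply, CommRingCat.comp_apply, h2, map_zero, map_zero]
        · rw [Scheme.Hom.congr_app (D.map_comp γ β1), Scheme.Hom.comp_app, CommRingCat.comp_apply,
            CommRingCat.comp_apply, h1 y hy, map_zero, map_zero])
    z hz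
  obtain ⟨k, α⟩ := q
  refine ⟨k, α, ?_⟩
  obtain ⟨Φk, hΦk⟩ := exists_pullEquiv (D.map (α ≫ φ)) G (W := V) le_rfl hV (hV.preimage _)
  have : Φk ((ρ ⟨k, α⟩).toLinearMap.rTensor Γ(G, V) z) =
      trans (D.map α) (D.map φ) G (D.map_comp α φ).symm (le_step α φ V) (Φj z) := by
    clear hq h hz
    induction z using TensorProduct.induction_on with
    | zero => simp only [map_zero]; rw [trans_zero]
    | tmul b s => rw [LinearMap.rTensor_tmul, hΦk, hΦj, trans_smul, trans_res']; rfl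
    | add x y hx hy => simp only [map_add, hx, hy]; rw [trans_add]
  rw [← this, hq, map_zero]

include hc hV in
/-- Every section on the limit comes from a stage. -/
theorem exists_trans_eq (t : Γ((Scheme.Modules.pullback (c.π.app i₀)).obj G, c.π.app i₀ ⁻¹ᵁ V)) :
    ∃ (j : I) (φ : j ⟶ i₀) (a : Γ((Scheme.Modules.pullback (D.map φ)).obj G, D.map φ ⁻¹ᵁ V)),
      trans (c.π.app j) (D.map φ) G (c.w φ) (le_stage φ V) a = t := by
  have hV' := isAffineOpen_stage hc hV
  induction t using pullback_induction (c.π.app i₀) G (W := V) le_rfl hV hV' with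
  | h0 => exact ⟨i₀, 𝟙 i₀, 0, trans_zero ..⟩
  | hadd t t' ht ht' =>
    obtain ⟨j, φ, a, rfl⟩ := ht
    obtain ⟨j', φ', a', rfl⟩ := ht'
    obtain ⟨k, γ, δ, hγ⟩ := IsCofiltered.cospan φ φ'
    refine ⟨k, γ ≫ φ, trans (D.map γ) (D.map φ) G (D.map_comp γ φ).symm (le_step γ φ V) a +
      trans (D.map δ) (D.map φ') G (by rw [hγ, D.map_comp]) (by rw [hγ]; exact le_step δ φ' V) a', ?_⟩
    rw [trans_add, trans_trans _ _ _ _ _ _ (by rw [c.w, c.w]) hV (hV.preimage _) le_rfl,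
      trans_trans _ _ _ _ _ _ (by rw [c.w, c.w]) hV (hV.preimage _) le_rfl]
    simp only [c.w]
  | hres r s =>
    obtain ⟨j, φ, r', e, hr⟩ := LimH13.exists_section_of_isLimit hc V hV r
    refine ⟨j, φ, r' • res' (D.map φ) G (W := V) le_rfl s, ?_⟩
    rw [trans_smul, trans_res', hr]

end Limit

end Groth.Agent.ModLimH13
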