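import Mathlib

set_option autoImplicit false
universe u
open CategoryTheory CategoryTheory.Limits

namespace Groth.Agent.ColimHomH13

variable {A : Type u} [CommRing A] {J : Type u} [Preorder J] [IsDirected J (· ≤ ·)] [Nonempty J]
  (N : J ⥤ ModuleCat.{u} A)

theorem exists_rep (z : (colimit N : ModuleCat.{u} A)) :
    ∃ (j : J) (x : N.obj j), (colimit.ι N j).hom x = z :=
  Concrete.colimit_exists_rep N z

theorem exists_eq {j : J} (x y : N.obj j)
    (h : (colimit.ι N j).hom x = (colimit.ι N j).hom y) :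
    ∃ (k : J) (f : j ⟶ k), (N.map f).hom x = (N.map f).hom y := by
  obtain ⟨k, f, g, hfg⟩ := Concrete.colimit_exists_of_rep_eq N x y h
  exact ⟨k, f, by rwa [Subsingleton.elim g f] at hfg⟩

/-- finitely many equalities in the colimit hold at a common later stage -/
theorem exists_eqOn {ι : Type*} (s : Finset ι) {j : J} (x y : ι → N.obj j)
    (h : ∀ i ∈ s, (colimit.ι N j).hom (x i) = (colimit.ι N j).hom (y i)) :
    ∃ (k : J) (f : j ⟶ k), ∀ i ∈ s, (N.map f).hom (x i) = (N.map f).hom (y i) := by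
  classical
  induction s using Finset.induction_on with
  | empty => exact ⟨j, 𝟙 j, by simp⟩
  | insert a s ha ih =>
    obtain ⟨k, f, hf⟩ := ih fun i hi => h i (Finset.mem_insert_of_mem hi)
    obtain ⟨l, g, hg⟩ := exists_eq N _ _ (h a (Finset.mem_insert_self a s))
    refine ⟨IsFiltered.max k l, f ≫ IsFiltered.leftToMax k l, ?_⟩
    intro i hi
    rcases Finset.mem_insert.1 hi with rfl | hi
    · have e : f ≫ IsFiltered.leftToMax k l = g ≫ IsFiltered.rightToMax k l := Subsingleton.elim _ _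
      rw [e]; simp [hg]
    · simp [hf i hi]

theorem exists_stage_lift {n : ℕ} (z : Fin n → (colimit N : ModuleCat.{u} A)) :
    ∃ (j : J) (x : Fin n → N.obj j), ∀ i, (colimit.ι N j).hom (x i) = z i := by
  induction n with
  | zero => exact ⟨Classical.arbitrary J, Fin.elim0, fun i => i.elim0⟩
  | succ n ih =>
    obtain ⟨j, x, hx⟩ := ih (Fin.tail z)
    obtain ⟨k, y, hy⟩ := exists_rep N (z 0)
    refine ⟨IsFiltered.max j k, Fin.cons ((N.map (IsFiltered.rightToMax j k)).hom y)
      (fun i => (N.map (IsFiltered.leftToMax j k)).hom (x i)), ?_⟩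
    refine Fin.cases ?_ (fun i => ?_)
    · rw [Fin.cons_zero]
      exact (ConcreteCategory.congr_hom (colimit.w N (IsFiltered.rightToMax j k)) y).trans hy
    · rw [Fin.cons_succ]
      exact (ConcreteCategory.congr_hom (colimit.w N (IsFiltered.leftToMax j k)) (x i)).trans (hx i)

variable (M : ModuleCat.{u} A)

theorem post_ι_apply (j : J) (φ : M ⟶ N.obj j) :
    colimit.post N (coyoneda.obj (Opposite.op M)) (colimit.ι (N ⋙ coyoneda.obj (Opposite.op M)) j φ)
      = φ ≫ colimit.ι N j := by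
  rw [← ConcreteCategory.comp_apply, colimit.ι_post]
  rfl

theorem post_injective [Module.Finite A M] :
    Function.Injective (colimit.post N (coyoneda.obj (Opposite.op M))) := by
  intro a b hab
  obtain ⟨i, φ, rfl⟩ := Types.jointly_surjective' a
  obtain ⟨k, ψ, rfl⟩ := Types.jointly_surjective' b
  rw [post_ι_apply, post_ι_apply] at hab
  let m := IsFiltered.max i k
  let p : i ⟶ m := IsFiltered.leftToMax i k
  let q : k ⟶ m := IsFiltered.rightToMax i k
  obtain ⟨s, hs⟩ := Module.Finite.fg_top (R := A) (M := M)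
  obtain ⟨l, r, hr⟩ := exists_eqOn N s (fun x => (φ ≫ N.map p).hom x) (fun x => (ψ ≫ N.map q).hom x)
    (fun x _ => by
      have h1 : (φ ≫ N.map p) ≫ colimit.ι N m = (ψ ≫ N.map q) ≫ colimit.ι N m := by
        rw [Category.assoc, Category.assoc, colimit.w, colimit.w, hab]
      exact ConcreteCategory.congr_hom h1 x)
  refine (Types.FilteredColimit.colimit_eq_iff (F := N ⋙ coyoneda.obj (Opposite.op M))).2
    ⟨l, p ≫ r, q ≫ r, ?_⟩
  show φ ≫ N.map (p ≫ r) = ψ ≫ N.map (q ≫ r)
  rw [Functor.map_comp, Functor.map_comp]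
  refine ModuleCat.hom_ext (LinearMap.ext_on hs ?_)
  intro x hx
  exact hr x hx

theorem exists_factor [Module.FinitePresentation A M] (g : M ⟶ colimit N) :
    ∃ (j : J) (φ : M ⟶ N.obj j), φ ≫ colimit.ι N j = g := by
  obtain ⟨n, s, hs⟩ := Module.Finite.exists_fin (R := A) (M := M)
  let π : (Fin n → A) →ₗ[A] M := Fintype.linearCombination A s
  have hπ : Function.Surjective π := by
    rw [← LinearMap.range_eq_top, Fintype.range_linearCombination, hs]
  obtain ⟨j, x, hx⟩ := exists_stage_lift N (fun i => g.hom (s i))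
  obtain ⟨t, ht⟩ := Module.FinitePresentation.fg_ker π hπ
  let φ₀ : (Fin n → A) →ₗ[A] N.obj j := Fintype.linearCombination A x
  have hcomp : ∀ v, (colimit.ι N j).hom (φ₀ v) = g.hom (π v) := by
    intro v
    simp [φ₀, π, Fintype.linearCombination_apply, map_sum, hx]
  obtain ⟨k, f, hf⟩ := exists_eqOn N t (fun v => φ₀ v) (fun _ => 0) (fun v hv => by
    have : v ∈ LinearMap.ker π := ht ▸ Submodule.subset_span hv
    rw [hcomp, LinearMap.mem_ker.1 this]; simp)
  let φ₁ : (Fin n → A) →ₗ[A] N.obj k := (N.map f).hom ∘ₗ φ₀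
  have hker : LinearMap.ker π ≤ LinearMap.ker φ₁ := by
    rw [← ht, Submodule.span_le]
    intro v hv
    simpa [φ₁] using hf v hv
  let ψ : M →ₗ[A] N.obj k :=
    (Submodule.liftQ _ φ₁ hker) ∘ₗ (LinearMap.quotKerEquivOfSurjective π hπ).symm.toLinearMap
  refine ⟨k, ModuleCat.ofHom ψ, ?_⟩
  refine ModuleCat.hom_ext (LinearMap.ext fun y => ?_)
  obtain ⟨v, rfl⟩ := hπ y
  have h1 : (LinearMap.quotKerEquivOfSurjective π hπ).symm (π v) = Submodule.Quotient.mk v := by
    rw [LinearEquiv.symm_apply_eq]; simp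
  show (colimit.ι N k).hom (ψ (π v)) = g.hom (π v)
  have h2 : ψ (π v) = φ₁ v := by
    simp [ψ, h1]
  rw [h2, ← hcomp v]
  exact ConcreteCategory.congr_hom (colimit.w N f) (φ₀ v)

theorem post_bijective [Module.FinitePresentation A M] :
    Function.Bijective (colimit.post N (coyoneda.obj (Opposite.op M))) := by
  refine ⟨post_injective N M, fun g => ?_⟩
  obtain ⟨j, φ, hφ⟩ := exists_factor N M g
  exact ⟨colimit.ι (N ⋙ coyoneda.obj (Opposite.op M)) j φ, by rw [post_ι_apply, hφ]⟩

end Groth.Agent.ColimHomH13
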